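import Cfsg.Agent.Spor.C3A.D0

set_option autoImplicit false
set_option maxRecDepth 100000000
set_option Elab.async false

namespace Cfsg.Agent.Spor.C3A

theorem ok0 : Net.okb 6 n0 = true := by decide +kernel

theorem ok1 : Net.okb 6 n1 = true := by decide +kernel

theorem ok2 : Net.okb 6 n2 = true := by decide +kernel

theorem ok3 : Net.okb 6 n3 = true := by decide +kernel

theorem ok4 : Net.okb 6 n4 = true := by decide +kernel

theorem ok5 : Net.okb 6 n5 = true := by decide +kernel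

theorem rel0 : T.rel 6 [9, 7, 9, 2, 3, 1] 0 6 = true := by decide +kernel

theorem rel1 : T.rel 6 [1, 8, 9, 1, 3, 2] 0 6 = true := by decide +kernel

theorem rel2 : T.rel 6 [3, 8, 3, 2, 9, 2] 0 6 = true := by decide +kernel

theorem rel3 : T.rel 6 [4, 7, 8, 4, 2, 1] 0 6 = true := by decide +kernel

theorem rel4 : T.rel 6 [1, 8, 4, 1, 10, 2] 0 6 = true := by decide +kernel

theorem rel5 : T.rel 6 [11, 7, 5, 1] 0 6 = true := by decide +kernel

theorem rel6 : T.rel 6 [11, 8, 11, 3, 5, 2] 0 6 = true := by decide +kernel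

theorem rel7 : T.rel 6 [4, 9, 11, 4, 5, 3] 0 6 = true := by decide +kernel

theorem rel8 : T.rel 6 [11, 10, 11, 3, 5, 4] 0 6 = true := by decide +kernel

theorem rel9 : T.rel 6 [5, 9, 5, 3, 11, 3] 0 6 = true := by decide +kernel

theorem rel10 : T.rel 6 [12, 7, 6, 1] 0 6 = true := by decide +kernel

theorem rel11 : T.rel 6 [12, 8, 6, 2] 0 6 = true := by decide +kernel

theorem rel12 : T.rel 6 [12, 10, 6, 4] 0 6 = true := by decide +kernel

theorem rel13 : T.rel 6 [12, 9, 12, 5, 6, 3] 0 6 = true := by decide +kernel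

theorem rel14 : T.rel 6 [1, 1, 1] 0 6 = true := by decide +kernel

theorem rel15 : T.rel 6 [2, 2, 2] 0 6 = true := by decide +kernel

theorem rel16 : T.rel 6 [3, 3, 3] 0 6 = true := by decide +kernel

theorem rel17 : T.rel 6 [4, 4, 4] 0 6 = true := by decide +kernel

theorem rel18 : T.rel 6 [5, 5, 5] 0 6 = true := by decide +kernel

theorem rel19 : T.rel 6 [6, 6, 6] 0 6 = true := by decide +kernel

theorem hcov : T.treeCov (ones 56) L 1 = true := by decide +kernel

theorem hg : lall (fun z => band (memL L z) (band (sub (ones 56) (T.let z).cl) (T.closed (ones 56) z))) gs = true := by decide +kernel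

theorem rot1_1 : T.rot 1 [7] (sel (ones 56) ip1 1) = true := by decide +kernel

theorem rot1_1r : band (Rule.ok (2 * 0) EX RL ⟨1 :: [7], [], 20, false⟩) (lall (memL L) [7]) = true := by decide +kernel

theorem rot1_2 : T.rot 1 [1, 1] (sel (ones 56) ip1 2) = true := by decide +kernel

theorem rot1_2r : band (Rule.ok (2 * 0) EX RL ⟨1 :: [1, 1], [], 14, true⟩) (lall (memL L) [1, 1]) = true := by decide +kernel

theorem rot1_3 : T.rot 1 [11, 7, 5] (sel (ones 56) ip1 3) = true := by decide +kernel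

theorem rot1_3r : band (Rule.ok (2 * 0) EX RL ⟨1 :: [11, 7, 5], [0], 5, true⟩) (lall (memL L) [11, 7, 5]) = true := by decide +kernel

theorem rot1_4 : T.rot 1 [5, 7, 11] (sel (ones 56) ip1 4) = true := by decide +kernel

theorem rot1_4r : band (Rule.ok (2 * 0) EX RL ⟨1 :: [5, 7, 11], [8, 0], 5, false⟩) (lall (memL L) [5, 7, 11]) = true := by decide +kernel

theorem rot1_5 : T.rot 1 [12, 7, 6] (sel (ones 56) ip1 5) = true := by decide +kernel

theorem rot1_5r : band (Rule.ok (2 * 0) EX RL ⟨1 :: [12, 7, 6], [0], 10, true⟩) (lall (memL L) [12, 7, 6]) = true := by decide +kernel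

theorem rot1_6 : T.rot 1 [6, 7, 12] (sel (ones 56) ip1 6) = true := by decide +kernel

theorem rot1_6r : band (Rule.ok (2 * 0) EX RL ⟨1 :: [6, 7, 12], [10, 0], 10, false⟩) (lall (memL L) [6, 7, 12]) = true := by decide +kernel

theorem rot1_7 : T.rot 1 [9, 7, 9, 2, 3] (sel (ones 56) ip1 7) = true := by decide +kernel

theorem rot1_7r : band (Rule.ok (2 * 0) EX RL ⟨1 :: [9, 7, 9, 2, 3], [0], 0, true⟩) (lall (memL L) [9, 7, 9, 2, 3]) = true := by decide +kernel

theorem rot1_8 : T.rot 1 [3, 7, 9, 8, 3] (sel (ones 56) ip1 8) = true := by decide +kernel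

theorem rot1_8r : band (Rule.ok (2 * 0) EX RL ⟨1 :: [3, 7, 9, 8, 3], [4, 0], 0, false⟩) (lall (memL L) [3, 7, 9, 8, 3]) = true := by decide +kernel

theorem rot1_9 : T.rot 1 [3, 2, 1, 8, 9] (sel (ones 56) ip1 9) = true := by decide +kernel

theorem rot1_9r : band (Rule.ok (2 * 0) EX RL ⟨1 :: [3, 2, 1, 8, 9], [2, 4, 0], 1, true⟩) (lall (memL L) [3, 2, 1, 8, 9]) = true := by decide +kernel

theorem rot1_10 : T.rot 1 [4, 7, 8, 4, 2] (sel (ones 56) ip1 10) = true := by decide +kernel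

theorem rot1_10r : band (Rule.ok (2 * 0) EX RL ⟨1 :: [4, 7, 8, 4, 2], [0], 3, true⟩) (lall (memL L) [4, 7, 8, 4, 2]) = true := by decide +kernel

theorem rot1_11 : T.rot 1 [10, 2, 1, 8, 4] (sel (ones 56) ip1 11) = true := by decide +kernel

theorem rot1_11r : band (Rule.ok (2 * 0) EX RL ⟨1 :: [10, 2, 1, 8, 4], [2, 7, 0], 4, true⟩) (lall (memL L) [10, 2, 1, 8, 4]) = true := by decide +kernel

theorem cov1 : T.cover 1 [(sel (ones 56) ip1 1), (sel (ones 56) ip1 2), (sel (ones 56) ip1 3), (sel (ones 56) ip1 4), (sel (ones 56) ip1 5), (sel (ones 56) ip1 6), (sel (ones 56) ip1 7), (sel (ones 56) ip1 8), (sel (ones 56) ip1 9), (sel (ones 56) ip1 10), (sel (ones 56) ip1 11), 1] = true := by decide +kernel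

theorem tl1 : T.treeLt 6 1 = true := by decide +kernel

theorem rot2_1 : T.rot 2 [8] (sel (ones 56) ip2 1) = true := by decide +kernel

theorem rot2_1r : band (Rule.ok (2 * 0) EX RL ⟨2 :: [8], [], 20, false⟩) (lall (memL L) [8]) = true := by decide +kernel

theorem rot2_2 : T.rot 2 [2, 2] (sel (ones 56) ip2 2) = true := by decide +kernel

theorem rot2_2r : band (Rule.ok (2 * 0) EX RL ⟨2 :: [2, 2], [], 15, true⟩) (lall (memL L) [2, 2]) = true := by decide +kernel

theorem rot2_3 : T.rot 2 [12, 8, 6] (sel (ones 56) ip2 3) = true := by decide +kernel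

theorem rot2_3r : band (Rule.ok (2 * 0) EX RL ⟨2 :: [12, 8, 6], [2], 11, true⟩) (lall (memL L) [12, 8, 6]) = true := by decide +kernel

theorem rot2_4 : T.rot 2 [6, 8, 12] (sel (ones 56) ip2 4) = true := by decide +kernel

theorem rot2_4r : band (Rule.ok (2 * 0) EX RL ⟨2 :: [6, 8, 12], [10, 2], 11, false⟩) (lall (memL L) [6, 8, 12]) = true := by decide +kernel

theorem rot2_5 : T.rot 2 [3, 1, 9, 7, 9] (sel (ones 56) ip2 5) = true := by decide +kernel

theorem rot2_5r : band (Rule.ok (2 * 0) EX RL ⟨2 :: [3, 1, 9, 7, 9], [0, 4, 2], 0, true⟩) (lall (memL L) [3, 1, 9, 7, 9]) = true := by decide +kernel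

theorem rot2_6 : T.rot 2 [1, 8, 9, 1, 3] (sel (ones 56) ip2 6) = true := by decide +kernel

theorem rot2_6r : band (Rule.ok (2 * 0) EX RL ⟨2 :: [1, 8, 9, 1, 3], [2], 1, true⟩) (lall (memL L) [1, 8, 9, 1, 3]) = true := by decide +kernel

theorem rot2_7 : T.rot 2 [7, 8, 9, 7, 3] (sel (ones 56) ip2 7) = true := by decide +kernel

theorem rot2_7r : band (Rule.ok (2 * 0) EX RL ⟨2 :: [7, 8, 9, 7, 3], [1, 2], 1, false⟩) (lall (memL L) [7, 8, 9, 7, 3]) = true := by decide +kernel

theorem rot2_8 : T.rot 2 [9, 2, 3, 8, 3] (sel (ones 56) ip2 8) = true := by decide +kernel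

theorem rot2_8r : band (Rule.ok (2 * 0) EX RL ⟨2 :: [9, 2, 3, 8, 3], [2, 5, 2], 2, true⟩) (lall (memL L) [9, 2, 3, 8, 3]) = true := by decide +kernel

theorem rot2_9 : T.rot 2 [3, 8, 3, 2, 9] (sel (ones 56) ip2 9) = true := by decide +kernel

theorem rot2_9r : band (Rule.ok (2 * 0) EX RL ⟨2 :: [3, 8, 3, 2, 9], [2], 2, true⟩) (lall (memL L) [3, 8, 3, 2, 9]) = true := by decide +kernel

theorem rot2_10 : T.rot 2 [9, 8, 3, 8, 9] (sel (ones 56) ip2 10) = true := by decide +kernel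

theorem rot2_10r : band (Rule.ok (2 * 0) EX RL ⟨2 :: [9, 8, 3, 8, 9], [5, 2], 2, false⟩) (lall (memL L) [9, 8, 3, 8, 9]) = true := by decide +kernel

theorem rot2_11 : T.rot 2 [1, 4, 7, 8, 4] (sel (ones 56) ip2 11) = true := by decide +kernel

theorem rot2_11r : band (Rule.ok (2 * 0) EX RL ⟨2 :: [1, 4, 7, 8, 4], [0, 2], 3, true⟩) (lall (memL L) [1, 4, 7, 8, 4]) = true := by decide +kernel

theorem rot2_12 : T.rot 2 [1, 10, 7, 8, 10] (sel (ones 56) ip2 12) = true := by decide +kernel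

theorem rot2_12r : band (Rule.ok (2 * 0) EX RL ⟨2 :: [1, 10, 7, 8, 10], [7, 0, 2], 3, false⟩) (lall (memL L) [1, 10, 7, 8, 10]) = true := by decide +kernel

theorem rot2_13 : T.rot 2 [11, 8, 11, 3, 5] (sel (ones 56) ip2 13) = true := by decide +kernel

theorem rot2_13r : band (Rule.ok (2 * 0) EX RL ⟨2 :: [11, 8, 11, 3, 5], [2], 6, true⟩) (lall (memL L) [11, 8, 11, 3, 5]) = true := by decide +kernel

theorem rot2_14 : T.rot 2 [5, 8, 11, 9, 5] (sel (ones 56) ip2 14) = true := by decide +kernel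

theorem rot2_14r : band (Rule.ok (2 * 0) EX RL ⟨2 :: [5, 8, 11, 9, 5], [8, 2], 6, false⟩) (lall (memL L) [5, 8, 11, 9, 5]) = true := by decide +kernel

theorem cov2 : T.cover 2 [(sel (ones 56) ip2 1), (sel (ones 56) ip2 2), (sel (ones 56) ip2 3), (sel (ones 56) ip2 4), (sel (ones 56) ip2 5), (sel (ones 56) ip2 6), (sel (ones 56) ip2 7), (sel (ones 56) ip2 8), (sel (ones 56) ip2 9), (sel (ones 56) ip2 10), (sel (ones 56) ip2 11), (sel (ones 56) ip2 12), (sel (ones 56) ip2 13), (sel (ones 56) ip2 14), 1] = true := by decide +kernel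

theorem tl2 : T.treeLt 6 2 = true := by decide +kernel

theorem rot3_1 : T.rot 3 [9] (sel (ones 56) ip3 1) = true := by decide +kernel

theorem rot3_1r : band (Rule.ok (2 * 0) EX RL ⟨3 :: [9], [], 20, false⟩) (lall (memL L) [9]) = true := by decide +kernel

theorem rot3_2 : T.rot 3 [3, 3] (sel (ones 56) ip3 2) = true := by decide +kernel

theorem rot3_2r : band (Rule.ok (2 * 0) EX RL ⟨3 :: [3, 3], [], 16, true⟩) (lall (memL L) [3, 3]) = true := by decide +kernel

theorem rot3_3 : T.rot 3 [1, 9, 7, 9, 2] (sel (ones 56) ip3 3) = true := by decide +kernel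

theorem rot3_3r : band (Rule.ok (2 * 0) EX RL ⟨3 :: [1, 9, 7, 9, 2], [0, 4], 0, true⟩) (lall (memL L) [1, 9, 7, 9, 2]) = true := by decide +kernel

theorem rot3_4 : T.rot 3 [1, 3, 7, 9, 8] (sel (ones 56) ip3 4) = true := by decide +kernel

theorem rot3_4r : band (Rule.ok (2 * 0) EX RL ⟨3 :: [1, 3, 7, 9, 8], [4, 0, 4], 0, false⟩) (lall (memL L) [1, 3, 7, 9, 8]) = true := by decide +kernel

theorem rot3_5 : T.rot 3 [7, 9, 8, 3, 1] (sel (ones 56) ip3 5) = true := by decide +kernel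

theorem rot3_5r : band (Rule.ok (2 * 0) EX RL ⟨3 :: [7, 9, 8, 3, 1], [4], 0, false⟩) (lall (memL L) [7, 9, 8, 3, 1]) = true := by decide +kernel

theorem rot3_6 : T.rot 3 [2, 7, 8, 9, 7] (sel (ones 56) ip3 6) = true := by decide +kernel

theorem rot3_6r : band (Rule.ok (2 * 0) EX RL ⟨3 :: [2, 7, 8, 9, 7], [1, 2, 4], 1, false⟩) (lall (memL L) [2, 7, 8, 9, 7]) = true := by decide +kernel

theorem rot3_7 : T.rot 3 [8, 3, 2, 9, 2] (sel (ones 56) ip3 7) = true := by decide +kernel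

theorem rot3_7r : band (Rule.ok (2 * 0) EX RL ⟨3 :: [8, 3, 2, 9, 2], [], 2, true⟩) (lall (memL L) [8, 3, 2, 9, 2]) = true := by decide +kernel

theorem rot3_8 : T.rot 3 [8, 9, 2, 9, 8] (sel (ones 56) ip3 8) = true := by decide +kernel

theorem rot3_8r : band (Rule.ok (2 * 0) EX RL ⟨3 :: [8, 9, 2, 9, 8], [2], 2, false⟩) (lall (memL L) [8, 9, 2, 9, 8]) = true := by decide +kernel

theorem rot3_9 : T.rot 3 [5, 2, 11, 8, 11] (sel (ones 56) ip3 9) = true := by decide +kernel

theorem rot3_9r : band (Rule.ok (2 * 0) EX RL ⟨3 :: [5, 2, 11, 8, 11], [2, 8, 4], 6, true⟩) (lall (memL L) [5, 2, 11, 8, 11]) = true := by decide +kernel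

theorem rot3_10 : T.rot 3 [4, 9, 11, 4, 5] (sel (ones 56) ip3 10) = true := by decide +kernel

theorem rot3_10r : band (Rule.ok (2 * 0) EX RL ⟨3 :: [4, 9, 11, 4, 5], [4], 7, true⟩) (lall (memL L) [4, 9, 11, 4, 5]) = true := by decide +kernel

theorem rot3_11 : T.rot 3 [10, 9, 11, 10, 5] (sel (ones 56) ip3 11) = true := by decide +kernel

theorem rot3_11r : band (Rule.ok (2 * 0) EX RL ⟨3 :: [10, 9, 11, 10, 5], [7, 4], 7, false⟩) (lall (memL L) [10, 9, 11, 10, 5]) = true := by decide +kernel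

theorem rot3_12 : T.rot 3 [5, 4, 11, 10, 11] (sel (ones 56) ip3 12) = true := by decide +kernel

theorem rot3_12r : band (Rule.ok (2 * 0) EX RL ⟨3 :: [5, 4, 11, 10, 11], [6, 8, 4], 8, true⟩) (lall (memL L) [5, 4, 11, 10, 11]) = true := by decide +kernel

theorem rot3_13 : T.rot 3 [11, 3, 5, 9, 5] (sel (ones 56) ip3 13) = true := by decide +kernel

theorem rot3_13r : band (Rule.ok (2 * 0) EX RL ⟨3 :: [11, 3, 5, 9, 5], [4, 9, 4], 9, true⟩) (lall (memL L) [11, 3, 5, 9, 5]) = true := by decide +kernel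

theorem rot3_14 : T.rot 3 [5, 9, 5, 3, 11] (sel (ones 56) ip3 14) = true := by decide +kernel

theorem rot3_14r : band (Rule.ok (2 * 0) EX RL ⟨3 :: [5, 9, 5, 3, 11], [4], 9, true⟩) (lall (memL L) [5, 9, 5, 3, 11]) = true := by decide +kernel

theorem rot3_15 : T.rot 3 [12, 9, 12, 5, 6] (sel (ones 56) ip3 15) = true := by decide +kernel

theorem rot3_15r : band (Rule.ok (2 * 0) EX RL ⟨3 :: [12, 9, 12, 5, 6], [4], 13, true⟩) (lall (memL L) [12, 9, 12, 5, 6]) = true := by decide +kernel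

theorem rot3_16 : T.rot 3 [6, 9, 12, 11, 6] (sel (ones 56) ip3 16) = true := by decide +kernel

theorem rot3_16r : band (Rule.ok (2 * 0) EX RL ⟨3 :: [6, 9, 12, 11, 6], [10, 4], 13, false⟩) (lall (memL L) [6, 9, 12, 11, 6]) = true := by decide +kernel

theorem cov3 : T.cover 3 [(sel (ones 56) ip3 1), (sel (ones 56) ip3 2), (sel (ones 56) ip3 3), (sel (ones 56) ip3 4), (sel (ones 56) ip3 5), (sel (ones 56) ip3 6), (sel (ones 56) ip3 7), (sel (ones 56) ip3 8), (sel (ones 56) ip3 9), (sel (ones 56) ip3 10), (sel (ones 56) ip3 11), (sel (ones 56) ip3 12), (sel (ones 56) ip3 13), (sel (ones 56) ip3 14), (sel (ones 56) ip3 15), (sel (ones 56) ip3 16), 1] = true := by decide +kernel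

theorem tl3 : T.treeLt 6 3 = true := by decide +kernel

theorem rot4_1 : T.rot 4 [10] (sel (ones 56) ip4 1) = true := by decide +kernel

theorem rot4_1r : band (Rule.ok (2 * 0) EX RL ⟨4 :: [10], [], 20, false⟩) (lall (memL L) [10]) = true := by decide +kernel

theorem rot4_2 : T.rot 4 [4, 4] (sel (ones 56) ip4 2) = true := by decide +kernel

theorem rot4_2r : band (Rule.ok (2 * 0) EX RL ⟨4 :: [4, 4], [], 17, true⟩) (lall (memL L) [4, 4]) = true := by decide +kernel

theorem rot4_3 : T.rot 4 [12, 10, 6] (sel (ones 56) ip4 3) = true := by decide +kernel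

theorem rot4_3r : band (Rule.ok (2 * 0) EX RL ⟨4 :: [12, 10, 6], [6], 12, true⟩) (lall (memL L) [12, 10, 6]) = true := by decide +kernel

theorem rot4_4 : T.rot 4 [6, 10, 12] (sel (ones 56) ip4 4) = true := by decide +kernel

theorem rot4_4r : band (Rule.ok (2 * 0) EX RL ⟨4 :: [6, 10, 12], [10, 6], 12, false⟩) (lall (memL L) [6, 10, 12]) = true := by decide +kernel

theorem rot4_5 : T.rot 4 [7, 8, 4, 2, 1] (sel (ones 56) ip4 5) = true := by decide +kernel

theorem rot4_5r : band (Rule.ok (2 * 0) EX RL ⟨4 :: [7, 8, 4, 2, 1], [], 3, true⟩) (lall (memL L) [7, 8, 4, 2, 1]) = true := by decide +kernel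

theorem rot4_6 : T.rot 4 [2, 1, 4, 7, 8] (sel (ones 56) ip4 6) = true := by decide +kernel

theorem rot4_6r : band (Rule.ok (2 * 0) EX RL ⟨4 :: [2, 1, 4, 7, 8], [0, 2, 6], 3, true⟩) (lall (memL L) [2, 1, 4, 7, 8]) = true := by decide +kernel

theorem rot4_7 : T.rot 4 [1, 10, 2, 1, 8] (sel (ones 56) ip4 7) = true := by decide +kernel

theorem rot4_7r : band (Rule.ok (2 * 0) EX RL ⟨4 :: [1, 10, 2, 1, 8], [1, 2], 4, true⟩) (lall (memL L) [1, 10, 2, 1, 8]) = true := by decide +kernel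

theorem rot4_8 : T.rot 4 [7, 10, 2, 7, 8] (sel (ones 56) ip4 8) = true := by decide +kernel

theorem rot4_8r : band (Rule.ok (2 * 0) EX RL ⟨4 :: [7, 10, 2, 7, 8], [2], 4, false⟩) (lall (memL L) [7, 10, 2, 7, 8]) = true := by decide +kernel

theorem rot4_9 : T.rot 4 [11, 10, 11, 3, 5] (sel (ones 56) ip4 9) = true := by decide +kernel

theorem rot4_9r : band (Rule.ok (2 * 0) EX RL ⟨4 :: [11, 10, 11, 3, 5], [6], 8, true⟩) (lall (memL L) [11, 10, 11, 3, 5]) = true := by decide +kernel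

theorem rot4_10 : T.rot 4 [5, 10, 11, 9, 5] (sel (ones 56) ip4 10) = true := by decide +kernel

theorem rot4_10r : band (Rule.ok (2 * 0) EX RL ⟨4 :: [5, 10, 11, 9, 5], [8, 6], 8, false⟩) (lall (memL L) [5, 10, 11, 9, 5]) = true := by decide +kernel

theorem cov4 : T.cover 4 [(sel (ones 56) ip4 1), (sel (ones 56) ip4 2), (sel (ones 56) ip4 3), (sel (ones 56) ip4 4), (sel (ones 56) ip4 5), (sel (ones 56) ip4 6), (sel (ones 56) ip4 7), (sel (ones 56) ip4 8), (sel (ones 56) ip4 9), (sel (ones 56) ip4 10), 1] = true := by decide +kernel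

theorem tl4 : T.treeLt 6 4 = true := by decide +kernel

theorem rot5_1 : T.rot 5 [11] (sel (ones 56) ip5 1) = true := by decide +kernel

theorem rot5_1r : band (Rule.ok (2 * 0) EX RL ⟨5 :: [11], [], 20, false⟩) (lall (memL L) [11]) = true := by decide +kernel

theorem rot5_2 : T.rot 5 [5, 5] (sel (ones 56) ip5 2) = true := by decide +kernel

theorem rot5_2r : band (Rule.ok (2 * 0) EX RL ⟨5 :: [5, 5], [], 18, true⟩) (lall (memL L) [5, 5]) = true := by decide +kernel

theorem rot5_3 : T.rot 5 [1, 11, 7] (sel (ones 56) ip5 3) = true := by decide +kernel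

theorem rot5_3r : band (Rule.ok (2 * 0) EX RL ⟨5 :: [1, 11, 7], [0, 8], 5, true⟩) (lall (memL L) [1, 11, 7]) = true := by decide +kernel

theorem rot5_4 : T.rot 5 [7, 11, 1] (sel (ones 56) ip5 4) = true := by decide +kernel

theorem rot5_4r : band (Rule.ok (2 * 0) EX RL ⟨5 :: [7, 11, 1], [8], 5, false⟩) (lall (memL L) [7, 11, 1]) = true := by decide +kernel

theorem rot5_5 : T.rot 5 [2, 11, 8, 11, 3] (sel (ones 56) ip5 5) = true := by decide +kernel

theorem rot5_5r : band (Rule.ok (2 * 0) EX RL ⟨5 :: [2, 11, 8, 11, 3], [2, 8], 6, true⟩) (lall (memL L) [2, 11, 8, 11, 3]) = true := by decide +kernel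

theorem rot5_6 : T.rot 5 [2, 5, 8, 11, 9] (sel (ones 56) ip5 6) = true := by decide +kernel

theorem rot5_6r : band (Rule.ok (2 * 0) EX RL ⟨5 :: [2, 5, 8, 11, 9], [8, 2, 8], 6, false⟩) (lall (memL L) [2, 5, 8, 11, 9]) = true := by decide +kernel

theorem rot5_7 : T.rot 5 [8, 11, 9, 5, 2] (sel (ones 56) ip5 7) = true := by decide +kernel

theorem rot5_7r : band (Rule.ok (2 * 0) EX RL ⟨5 :: [8, 11, 9, 5, 2], [8], 6, false⟩) (lall (memL L) [8, 11, 9, 5, 2]) = true := by decide +kernel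

theorem rot5_8 : T.rot 5 [3, 4, 9, 11, 4] (sel (ones 56) ip5 8) = true := by decide +kernel

theorem rot5_8r : band (Rule.ok (2 * 0) EX RL ⟨5 :: [3, 4, 9, 11, 4], [4, 8], 7, true⟩) (lall (memL L) [3, 4, 9, 11, 4]) = true := by decide +kernel

theorem rot5_9 : T.rot 5 [3, 10, 9, 11, 10] (sel (ones 56) ip5 9) = true := by decide +kernel

theorem rot5_9r : band (Rule.ok (2 * 0) EX RL ⟨5 :: [3, 10, 9, 11, 10], [7, 4, 8], 7, false⟩) (lall (memL L) [3, 10, 9, 11, 10]) = true := by decide +kernel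

theorem rot5_10 : T.rot 5 [4, 11, 10, 11, 3] (sel (ones 56) ip5 10) = true := by decide +kernel

theorem rot5_10r : band (Rule.ok (2 * 0) EX RL ⟨5 :: [4, 11, 10, 11, 3], [6, 8], 8, true⟩) (lall (memL L) [4, 11, 10, 11, 3]) = true := by decide +kernel

theorem rot5_11 : T.rot 5 [10, 11, 9, 5, 4] (sel (ones 56) ip5 11) = true := by decide +kernel

theorem rot5_11r : band (Rule.ok (2 * 0) EX RL ⟨5 :: [10, 11, 9, 5, 4], [8], 8, false⟩) (lall (memL L) [10, 11, 9, 5, 4]) = true := by decide +kernel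

theorem rot5_12 : T.rot 5 [9, 5, 3, 11, 3] (sel (ones 56) ip5 12) = true := by decide +kernel

theorem rot5_12r : band (Rule.ok (2 * 0) EX RL ⟨5 :: [9, 5, 3, 11, 3], [], 9, true⟩) (lall (memL L) [9, 5, 3, 11, 3]) = true := by decide +kernel

theorem rot5_13 : T.rot 5 [9, 11, 3, 11, 9] (sel (ones 56) ip5 13) = true := by decide +kernel

theorem rot5_13r : band (Rule.ok (2 * 0) EX RL ⟨5 :: [9, 11, 3, 11, 9], [4], 9, false⟩) (lall (memL L) [9, 11, 3, 11, 9]) = true := by decide +kernel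

theorem rot5_14 : T.rot 5 [6, 3, 12, 9, 12] (sel (ones 56) ip5 14) = true := by decide +kernel

theorem rot5_14r : band (Rule.ok (2 * 0) EX RL ⟨5 :: [6, 3, 12, 9, 12], [4, 10, 8], 13, true⟩) (lall (memL L) [6, 3, 12, 9, 12]) = true := by decide +kernel

theorem cov5 : T.cover 5 [(sel (ones 56) ip5 1), (sel (ones 56) ip5 2), (sel (ones 56) ip5 3), (sel (ones 56) ip5 4), (sel (ones 56) ip5 5), (sel (ones 56) ip5 6), (sel (ones 56) ip5 7), (sel (ones 56) ip5 8), (sel (ones 56) ip5 9), (sel (ones 56) ip5 10), (sel (ones 56) ip5 11), (sel (ones 56) ip5 12), (sel (ones 56) ip5 13), (sel (ones 56) ip5 14), 1] = true := by decide +kernel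

theorem tl5 : T.treeLt 6 5 = true := by decide +kernel

theorem rot6_1 : T.rot 6 [12] (sel (ones 56) ip6 1) = true := by decide +kernel

theorem rot6_1r : band (Rule.ok (2 * 0) EX RL ⟨6 :: [12], [], 20, false⟩) (lall (memL L) [12]) = true := by decide +kernel

theorem rot6_2 : T.rot 6 [6, 6] (sel (ones 56) ip6 2) = true := by decide +kernel

theorem rot6_2r : band (Rule.ok (2 * 0) EX RL ⟨6 :: [6, 6], [], 19, true⟩) (lall (memL L) [6, 6]) = true := by decide +kernel

theorem rot6_3 : T.rot 6 [1, 12, 7] (sel (ones 56) ip6 3) = true := by decide +kernel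

theorem rot6_3r : band (Rule.ok (2 * 0) EX RL ⟨6 :: [1, 12, 7], [0, 10], 10, true⟩) (lall (memL L) [1, 12, 7]) = true := by decide +kernel

theorem rot6_4 : T.rot 6 [7, 12, 1] (sel (ones 56) ip6 4) = true := by decide +kernel

theorem rot6_4r : band (Rule.ok (2 * 0) EX RL ⟨6 :: [7, 12, 1], [10], 10, false⟩) (lall (memL L) [7, 12, 1]) = true := by decide +kernel

theorem rot6_5 : T.rot 6 [2, 12, 8] (sel (ones 56) ip6 5) = true := by decide +kernel

theorem rot6_5r : band (Rule.ok (2 * 0) EX RL ⟨6 :: [2, 12, 8], [2, 10], 11, true⟩) (lall (memL L) [2, 12, 8]) = true := by decide +kernel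

theorem rot6_6 : T.rot 6 [8, 12, 2] (sel (ones 56) ip6 6) = true := by decide +kernel

theorem rot6_6r : band (Rule.ok (2 * 0) EX RL ⟨6 :: [8, 12, 2], [10], 11, false⟩) (lall (memL L) [8, 12, 2]) = true := by decide +kernel

theorem rot6_7 : T.rot 6 [4, 12, 10] (sel (ones 56) ip6 7) = true := by decide +kernel

theorem rot6_7r : band (Rule.ok (2 * 0) EX RL ⟨6 :: [4, 12, 10], [6, 10], 12, true⟩) (lall (memL L) [4, 12, 10]) = true := by decide +kernel

theorem rot6_8 : T.rot 6 [10, 12, 4] (sel (ones 56) ip6 8) = true := by decide +kernel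

theorem rot6_8r : band (Rule.ok (2 * 0) EX RL ⟨6 :: [10, 12, 4], [10], 12, false⟩) (lall (memL L) [10, 12, 4]) = true := by decide +kernel

theorem rot6_9 : T.rot 6 [3, 12, 9, 12, 5] (sel (ones 56) ip6 9) = true := by decide +kernel

theorem rot6_9r : band (Rule.ok (2 * 0) EX RL ⟨6 :: [3, 12, 9, 12, 5], [4, 10], 13, true⟩) (lall (memL L) [3, 12, 9, 12, 5]) = true := by decide +kernel

theorem rot6_10 : T.rot 6 [3, 6, 9, 12, 11] (sel (ones 56) ip6 10) = true := by decide +kernel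

theorem rot6_10r : band (Rule.ok (2 * 0) EX RL ⟨6 :: [3, 6, 9, 12, 11], [10, 4, 10], 13, false⟩) (lall (memL L) [3, 6, 9, 12, 11]) = true := by decide +kernel

theorem rot6_11 : T.rot 6 [9, 12, 11, 6, 3] (sel (ones 56) ip6 11) = true := by decide +kernel

theorem rot6_11r : band (Rule.ok (2 * 0) EX RL ⟨6 :: [9, 12, 11, 6, 3], [10], 13, false⟩) (lall (memL L) [9, 12, 11, 6, 3]) = true := by decide +kernel

theorem cov6 : T.cover 6 [(sel (ones 56) ip6 1), (sel (ones 56) ip6 2), (sel (ones 56) ip6 3), (sel (ones 56) ip6 4), (sel (ones 56) ip6 5), (sel (ones 56) ip6 6), (sel (ones 56) ip6 7), (sel (ones 56) ip6 8), (sel (ones 56) ip6 9), (sel (ones 56) ip6 10), (sel (ones 56) ip6 11)] = true := by decide +kernel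

theorem tl6 : T.treeLt 6 6 = true := by decide +kernel

theorem rot7_1 : T.rot 7 [1] (sel (ones 56) ip7 1) = true := by decide +kernel

theorem rot7_1r : band (Rule.ok (2 * 0) EX RL ⟨7 :: [1], [], 20, false⟩) (lall (memL L) [1]) = true := by decide +kernel

theorem rot7_2 : T.rot 7 [7, 7] (sel (ones 56) ip7 2) = true := by decide +kernel

theorem rot7_2r : band (Rule.ok (2 * 0) EX RL ⟨7 :: [7, 7], [], 14, false⟩) (lall (memL L) [7, 7]) = true := by decide +kernel

theorem rot7_3 : T.rot 7 [5, 1, 11] (sel (ones 56) ip7 3) = true := by decide +kernel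

theorem rot7_3r : band (Rule.ok (2 * 0) EX RL ⟨7 :: [5, 1, 11], [8], 5, true⟩) (lall (memL L) [5, 1, 11]) = true := by decide +kernel

theorem rot7_4 : T.rot 7 [11, 1, 5] (sel (ones 56) ip7 4) = true := by decide +kernel

theorem rot7_4r : band (Rule.ok (2 * 0) EX RL ⟨7 :: [11, 1, 5], [], 5, false⟩) (lall (memL L) [11, 1, 5]) = true := by decide +kernel

theorem rot7_5 : T.rot 7 [6, 1, 12] (sel (ones 56) ip7 5) = true := by decide +kernel

theorem rot7_5r : band (Rule.ok (2 * 0) EX RL ⟨7 :: [6, 1, 12], [10], 10, true⟩) (lall (memL L) [6, 1, 12]) = true := by decide +kernel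

theorem rot7_6 : T.rot 7 [12, 1, 6] (sel (ones 56) ip7 6) = true := by decide +kernel

theorem rot7_6r : band (Rule.ok (2 * 0) EX RL ⟨7 :: [12, 1, 6], [], 10, false⟩) (lall (memL L) [12, 1, 6]) = true := by decide +kernel

theorem rot7_7 : T.rot 7 [9, 2, 3, 1, 9] (sel (ones 56) ip7 7) = true := by decide +kernel

theorem rot7_7r : band (Rule.ok (2 * 0) EX RL ⟨7 :: [9, 2, 3, 1, 9], [4], 0, true⟩) (lall (memL L) [9, 2, 3, 1, 9]) = true := by decide +kernel

theorem rot7_8 : T.rot 7 [9, 8, 3, 1, 3] (sel (ones 56) ip7 8) = true := by decide +kernel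

theorem rot7_8r : band (Rule.ok (2 * 0) EX RL ⟨7 :: [9, 8, 3, 1, 3], [], 0, false⟩) (lall (memL L) [9, 8, 3, 1, 3]) = true := by decide +kernel

theorem rot7_9 : T.rot 7 [3, 2, 7, 8, 9] (sel (ones 56) ip7 9) = true := by decide +kernel

theorem rot7_9r : band (Rule.ok (2 * 0) EX RL ⟨7 :: [3, 2, 7, 8, 9], [2, 4], 1, false⟩) (lall (memL L) [3, 2, 7, 8, 9]) = true := by decide +kernel

theorem rot7_10 : T.rot 7 [8, 10, 2, 1, 10] (sel (ones 56) ip7 10) = true := by decide +kernel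

theorem rot7_10r : band (Rule.ok (2 * 0) EX RL ⟨7 :: [8, 10, 2, 1, 10], [], 3, false⟩) (lall (memL L) [8, 10, 2, 1, 10]) = true := by decide +kernel

theorem rot7_11 : T.rot 7 [10, 2, 7, 8, 4] (sel (ones 56) ip7 11) = true := by decide +kernel

theorem rot7_11r : band (Rule.ok (2 * 0) EX RL ⟨7 :: [10, 2, 7, 8, 4], [2, 7], 4, false⟩) (lall (memL L) [10, 2, 7, 8, 4]) = true := by decide +kernel

theorem cov7 : T.cover 7 [(sel (ones 56) ip7 1), (sel (ones 56) ip7 2), (sel (ones 56) ip7 3), (sel (ones 56) ip7 4), (sel (ones 56) ip7 5), (sel (ones 56) ip7 6), (sel (ones 56) ip7 7), (sel (ones 56) ip7 8), (sel (ones 56) ip7 9), (sel (ones 56) ip7 10), (sel (ones 56) ip7 11)] = true := by decide +kernel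

theorem tl7 : T.treeLt 6 7 = true := by decide +kernel

theorem rot8_1 : T.rot 8 [2] (sel (ones 56) ip8 1) = true := by decide +kernel

theorem rot8_1r : band (Rule.ok (2 * 0) EX RL ⟨8 :: [2], [], 20, false⟩) (lall (memL L) [2]) = true := by decide +kernel

theorem rot8_2 : T.rot 8 [8, 8] (sel (ones 56) ip8 2) = true := by decide +kernel

theorem rot8_2r : band (Rule.ok (2 * 0) EX RL ⟨8 :: [8, 8], [], 15, false⟩) (lall (memL L) [8, 8]) = true := by decide +kernel

theorem rot8_3 : T.rot 8 [6, 2, 12] (sel (ones 56) ip8 3) = true := by decide +kernel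

theorem rot8_3r : band (Rule.ok (2 * 0) EX RL ⟨8 :: [6, 2, 12], [10], 11, true⟩) (lall (memL L) [6, 2, 12]) = true := by decide +kernel

theorem rot8_4 : T.rot 8 [12, 2, 6] (sel (ones 56) ip8 4) = true := by decide +kernel

theorem rot8_4r : band (Rule.ok (2 * 0) EX RL ⟨8 :: [12, 2, 6], [], 11, false⟩) (lall (memL L) [12, 2, 6]) = true := by decide +kernel

theorem rot8_5 : T.rot 8 [3, 1, 3, 7, 9] (sel (ones 56) ip8 5) = true := by decide +kernel

theorem rot8_5r : band (Rule.ok (2 * 0) EX RL ⟨8 :: [3, 1, 3, 7, 9], [0, 4], 0, false⟩) (lall (memL L) [3, 1, 3, 7, 9]) = true := by decide +kernel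

theorem rot8_6 : T.rot 8 [9, 1, 3, 2, 1] (sel (ones 56) ip8 6) = true := by decide +kernel

theorem rot8_6r : band (Rule.ok (2 * 0) EX RL ⟨8 :: [9, 1, 3, 2, 1], [1], 1, true⟩) (lall (memL L) [9, 1, 3, 2, 1]) = true := by decide +kernel

theorem rot8_7 : T.rot 8 [9, 7, 3, 2, 7] (sel (ones 56) ip8 7) = true := by decide +kernel

theorem rot8_7r : band (Rule.ok (2 * 0) EX RL ⟨8 :: [9, 7, 3, 2, 7], [], 1, false⟩) (lall (memL L) [9, 7, 3, 2, 7]) = true := by decide +kernel

theorem rot8_8 : T.rot 8 [3, 2, 9, 2, 3] (sel (ones 56) ip8 8) = true := by decide +kernel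

theorem rot8_8r : band (Rule.ok (2 * 0) EX RL ⟨8 :: [3, 2, 9, 2, 3], [5], 2, true⟩) (lall (memL L) [3, 2, 9, 2, 3]) = true := by decide +kernel

theorem rot8_9 : T.rot 8 [3, 8, 9, 2, 9] (sel (ones 56) ip8 9) = true := by decide +kernel

theorem rot8_9r : band (Rule.ok (2 * 0) EX RL ⟨8 :: [3, 8, 9, 2, 9], [], 2, false⟩) (lall (memL L) [3, 8, 9, 2, 9]) = true := by decide +kernel

theorem rot8_10 : T.rot 8 [9, 2, 9, 8, 3] (sel (ones 56) ip8 10) = true := by decide +kernel

theorem rot8_10r : band (Rule.ok (2 * 0) EX RL ⟨8 :: [9, 2, 9, 8, 3], [2, 5], 2, false⟩) (lall (memL L) [9, 2, 9, 8, 3]) = true := by decide +kernel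

theorem rot8_11 : T.rot 8 [4, 2, 1, 4, 7] (sel (ones 56) ip8 11) = true := by decide +kernel

theorem rot8_11r : band (Rule.ok (2 * 0) EX RL ⟨8 :: [4, 2, 1, 4, 7], [7, 0], 3, true⟩) (lall (memL L) [4, 2, 1, 4, 7]) = true := by decide +kernel

theorem rot8_12 : T.rot 8 [10, 2, 1, 10, 7] (sel (ones 56) ip8 12) = true := by decide +kernel

theorem rot8_12r : band (Rule.ok (2 * 0) EX RL ⟨8 :: [10, 2, 1, 10, 7], [0], 3, false⟩) (lall (memL L) [10, 2, 1, 10, 7]) = true := by decide +kernel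

theorem rot8_13 : T.rot 8 [11, 3, 5, 2, 11] (sel (ones 56) ip8 13) = true := by decide +kernel

theorem rot8_13r : band (Rule.ok (2 * 0) EX RL ⟨8 :: [11, 3, 5, 2, 11], [8], 6, true⟩) (lall (memL L) [11, 3, 5, 2, 11]) = true := by decide +kernel

theorem rot8_14 : T.rot 8 [11, 9, 5, 2, 5] (sel (ones 56) ip8 14) = true := by decide +kernel

theorem rot8_14r : band (Rule.ok (2 * 0) EX RL ⟨8 :: [11, 9, 5, 2, 5], [], 6, false⟩) (lall (memL L) [11, 9, 5, 2, 5]) = true := by decide +kernel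

theorem cov8 : T.cover 8 [(sel (ones 56) ip8 1), (sel (ones 56) ip8 2), (sel (ones 56) ip8 3), (sel (ones 56) ip8 4), (sel (ones 56) ip8 5), (sel (ones 56) ip8 6), (sel (ones 56) ip8 7), (sel (ones 56) ip8 8), (sel (ones 56) ip8 9), (sel (ones 56) ip8 10), (sel (ones 56) ip8 11), (sel (ones 56) ip8 12), (sel (ones 56) ip8 13), (sel (ones 56) ip8 14)] = true := by decide +kernel

theorem tl8 : T.treeLt 6 8 = true := by decide +kernel

theorem rot9_1 : T.rot 9 [3] (sel (ones 56) ip9 1) = true := by decide +kernel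

theorem rot9_1r : band (Rule.ok (2 * 0) EX RL ⟨9 :: [3], [], 20, false⟩) (lall (memL L) [3]) = true := by decide +kernel

theorem rot9_2 : T.rot 9 [9, 9] (sel (ones 56) ip9 2) = true := by decide +kernel

theorem rot9_2r : band (Rule.ok (2 * 0) EX RL ⟨9 :: [9, 9], [], 16, false⟩) (lall (memL L) [9, 9]) = true := by decide +kernel

theorem rot9_3 : T.rot 9 [7, 9, 2, 3, 1] (sel (ones 56) ip9 3) = true := by decide +kernel

theorem rot9_3r : band (Rule.ok (2 * 0) EX RL ⟨9 :: [7, 9, 2, 3, 1], [], 0, true⟩) (lall (memL L) [7, 9, 2, 3, 1]) = true := by decide +kernel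

theorem rot9_4 : T.rot 9 [8, 3, 1, 3, 7] (sel (ones 56) ip9 4) = true := by decide +kernel

theorem rot9_4r : band (Rule.ok (2 * 0) EX RL ⟨9 :: [8, 3, 1, 3, 7], [0], 0, false⟩) (lall (memL L) [8, 3, 1, 3, 7]) = true := by decide +kernel

theorem rot9_5 : T.rot 9 [1, 3, 2, 1, 8] (sel (ones 56) ip9 5) = true := by decide +kernel

theorem rot9_5r : band (Rule.ok (2 * 0) EX RL ⟨9 :: [1, 3, 2, 1, 8], [1, 2], 1, true⟩) (lall (memL L) [1, 3, 2, 1, 8]) = true := by decide +kernel

theorem rot9_6 : T.rot 9 [2, 3, 8, 3, 2] (sel (ones 56) ip9 6) = true := by decide +kernel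

theorem rot9_6r : band (Rule.ok (2 * 0) EX RL ⟨9 :: [2, 3, 8, 3, 2], [2, 5], 2, true⟩) (lall (memL L) [2, 3, 8, 3, 2]) = true := by decide +kernel

theorem rot9_7 : T.rot 9 [8, 3, 8, 9, 2] (sel (ones 56) ip9 7) = true := by decide +kernel

theorem rot9_7r : band (Rule.ok (2 * 0) EX RL ⟨9 :: [8, 3, 8, 9, 2], [5], 2, false⟩) (lall (memL L) [8, 3, 8, 9, 2]) = true := by decide +kernel

theorem rot9_8 : T.rot 9 [5, 2, 5, 8, 11] (sel (ones 56) ip9 8) = true := by decide +kernel

theorem rot9_8r : band (Rule.ok (2 * 0) EX RL ⟨9 :: [5, 2, 5, 8, 11], [2, 8], 6, false⟩) (lall (memL L) [5, 2, 5, 8, 11]) = true := by decide +kernel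

theorem rot9_9 : T.rot 9 [11, 4, 5, 3, 4] (sel (ones 56) ip9 9) = true := by decide +kernel

theorem rot9_9r : band (Rule.ok (2 * 0) EX RL ⟨9 :: [11, 4, 5, 3, 4], [7], 7, true⟩) (lall (memL L) [11, 4, 5, 3, 4]) = true := by decide +kernel

theorem rot9_10 : T.rot 9 [11, 10, 5, 3, 10] (sel (ones 56) ip9 10) = true := by decide +kernel

theorem rot9_10r : band (Rule.ok (2 * 0) EX RL ⟨9 :: [11, 10, 5, 3, 10], [], 7, false⟩) (lall (memL L) [11, 10, 5, 3, 10]) = true := by decide +kernel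

theorem rot9_11 : T.rot 9 [5, 4, 5, 10, 11] (sel (ones 56) ip9 11) = true := by decide +kernel

theorem rot9_11r : band (Rule.ok (2 * 0) EX RL ⟨9 :: [5, 4, 5, 10, 11], [6, 8], 8, false⟩) (lall (memL L) [5, 4, 5, 10, 11]) = true := by decide +kernel

theorem rot9_12 : T.rot 9 [5, 3, 11, 3, 5] (sel (ones 56) ip9 12) = true := by decide +kernel

theorem rot9_12r : band (Rule.ok (2 * 0) EX RL ⟨9 :: [5, 3, 11, 3, 5], [9], 9, true⟩) (lall (memL L) [5, 3, 11, 3, 5]) = true := by decide +kernel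

theorem rot9_13 : T.rot 9 [5, 9, 11, 3, 11] (sel (ones 56) ip9 13) = true := by decide +kernel

theorem rot9_13r : band (Rule.ok (2 * 0) EX RL ⟨9 :: [5, 9, 11, 3, 11], [], 9, false⟩) (lall (memL L) [5, 9, 11, 3, 11]) = true := by decide +kernel

theorem rot9_14 : T.rot 9 [11, 3, 11, 9, 5] (sel (ones 56) ip9 14) = true := by decide +kernel

theorem rot9_14r : band (Rule.ok (2 * 0) EX RL ⟨9 :: [11, 3, 11, 9, 5], [4, 9], 9, false⟩) (lall (memL L) [11, 3, 11, 9, 5]) = true := by decide +kernel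

theorem rot9_15 : T.rot 9 [12, 5, 6, 3, 12] (sel (ones 56) ip9 15) = true := by decide +kernel

theorem rot9_15r : band (Rule.ok (2 * 0) EX RL ⟨9 :: [12, 5, 6, 3, 12], [10], 13, true⟩) (lall (memL L) [12, 5, 6, 3, 12]) = true := by decide +kernel

theorem rot9_16 : T.rot 9 [12, 11, 6, 3, 6] (sel (ones 56) ip9 16) = true := by decide +kernel

theorem rot9_16r : band (Rule.ok (2 * 0) EX RL ⟨9 :: [12, 11, 6, 3, 6], [], 13, false⟩) (lall (memL L) [12, 11, 6, 3, 6]) = true := by decide +kernel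

theorem cov9 : T.cover 9 [(sel (ones 56) ip9 1), (sel (ones 56) ip9 2), (sel (ones 56) ip9 3), (sel (ones 56) ip9 4), (sel (ones 56) ip9 5), (sel (ones 56) ip9 6), (sel (ones 56) ip9 7), (sel (ones 56) ip9 8), (sel (ones 56) ip9 9), (sel (ones 56) ip9 10), (sel (ones 56) ip9 11), (sel (ones 56) ip9 12), (sel (ones 56) ip9 13), (sel (ones 56) ip9 14), (sel (ones 56) ip9 15), (sel (ones 56) ip9 16)] = true := by decide +kernel

theorem tl9 : T.treeLt 6 9 = true := by decide +kernel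

theorem rot10_1 : T.rot 10 [4] (sel (ones 56) ip10 1) = true := by decide +kernel

theorem rot10_1r : band (Rule.ok (2 * 0) EX RL ⟨10 :: [4], [], 20, false⟩) (lall (memL L) [4]) = true := by decide +kernel

theorem rot10_2 : T.rot 10 [10, 10] (sel (ones 56) ip10 2) = true := by decide +kernel

theorem rot10_2r : band (Rule.ok (2 * 0) EX RL ⟨10 :: [10, 10], [], 17, false⟩) (lall (memL L) [10, 10]) = true := by decide +kernel

theorem rot10_3 : T.rot 10 [6, 4, 12] (sel (ones 56) ip10 3) = true := by decide +kernel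

theorem rot10_3r : band (Rule.ok (2 * 0) EX RL ⟨10 :: [6, 4, 12], [10], 12, true⟩) (lall (memL L) [6, 4, 12]) = true := by decide +kernel

theorem rot10_4 : T.rot 10 [12, 4, 6] (sel (ones 56) ip10 4) = true := by decide +kernel

theorem rot10_4r : band (Rule.ok (2 * 0) EX RL ⟨10 :: [12, 4, 6], [], 12, false⟩) (lall (memL L) [12, 4, 6]) = true := by decide +kernel

theorem rot10_5 : T.rot 10 [2, 1, 10, 7, 8] (sel (ones 56) ip10 5) = true := by decide +kernel

theorem rot10_5r : band (Rule.ok (2 * 0) EX RL ⟨10 :: [2, 1, 10, 7, 8], [0, 2], 3, false⟩) (lall (memL L) [2, 1, 10, 7, 8]) = true := by decide +kernel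

theorem rot10_6 : T.rot 10 [7, 8, 10, 2, 1] (sel (ones 56) ip10 6) = true := by decide +kernel

theorem rot10_6r : band (Rule.ok (2 * 0) EX RL ⟨10 :: [7, 8, 10, 2, 1], [7], 3, false⟩) (lall (memL L) [7, 8, 10, 2, 1]) = true := by decide +kernel

theorem rot10_7 : T.rot 10 [2, 1, 8, 4, 1] (sel (ones 56) ip10 7) = true := by decide +kernel

theorem rot10_7r : band (Rule.ok (2 * 0) EX RL ⟨10 :: [2, 1, 8, 4, 1], [2, 7], 4, true⟩) (lall (memL L) [2, 1, 8, 4, 1]) = true := by decide +kernel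

theorem rot10_8 : T.rot 10 [2, 7, 8, 4, 7] (sel (ones 56) ip10 8) = true := by decide +kernel

theorem rot10_8r : band (Rule.ok (2 * 0) EX RL ⟨10 :: [2, 7, 8, 4, 7], [1, 2, 7], 4, false⟩) (lall (memL L) [2, 7, 8, 4, 7]) = true := by decide +kernel

theorem rot10_9 : T.rot 10 [11, 3, 5, 4, 11] (sel (ones 56) ip10 9) = true := by decide +kernel

theorem rot10_9r : band (Rule.ok (2 * 0) EX RL ⟨10 :: [11, 3, 5, 4, 11], [8], 8, true⟩) (lall (memL L) [11, 3, 5, 4, 11]) = true := by decide +kernel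

theorem rot10_10 : T.rot 10 [11, 9, 5, 4, 5] (sel (ones 56) ip10 10) = true := by decide +kernel

theorem rot10_10r : band (Rule.ok (2 * 0) EX RL ⟨10 :: [11, 9, 5, 4, 5], [], 8, false⟩) (lall (memL L) [11, 9, 5, 4, 5]) = true := by decide +kernel

theorem cov10 : T.cover 10 [(sel (ones 56) ip10 1), (sel (ones 56) ip10 2), (sel (ones 56) ip10 3), (sel (ones 56) ip10 4), (sel (ones 56) ip10 5), (sel (ones 56) ip10 6), (sel (ones 56) ip10 7), (sel (ones 56) ip10 8), (sel (ones 56) ip10 9), (sel (ones 56) ip10 10)] = true := by decide +kernel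

theorem tl10 : T.treeLt 6 10 = true := by decide +kernel

theorem rot11_1 : T.rot 11 [5] (sel (ones 56) ip11 1) = true := by decide +kernel

theorem rot11_1r : band (Rule.ok (2 * 0) EX RL ⟨11 :: [5], [], 20, false⟩) (lall (memL L) [5]) = true := by decide +kernel

theorem rot11_2 : T.rot 11 [11, 11] (sel (ones 56) ip11 2) = true := by decide +kernel

theorem rot11_2r : band (Rule.ok (2 * 0) EX RL ⟨11 :: [11, 11], [], 18, false⟩) (lall (memL L) [11, 11]) = true := by decide +kernel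

theorem rot11_3 : T.rot 11 [7, 5, 1] (sel (ones 56) ip11 3) = true := by decide +kernel

theorem rot11_3r : band (Rule.ok (2 * 0) EX RL ⟨11 :: [7, 5, 1], [], 5, true⟩) (lall (memL L) [7, 5, 1]) = true := by decide +kernel

theorem rot11_4 : T.rot 11 [1, 5, 7] (sel (ones 56) ip11 4) = true := by decide +kernel

theorem rot11_4r : band (Rule.ok (2 * 0) EX RL ⟨11 :: [1, 5, 7], [0], 5, false⟩) (lall (memL L) [1, 5, 7]) = true := by decide +kernel

theorem rot11_5 : T.rot 11 [8, 11, 3, 5, 2] (sel (ones 56) ip11 5) = true := by decide +kernel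

theorem rot11_5r : band (Rule.ok (2 * 0) EX RL ⟨11 :: [8, 11, 3, 5, 2], [], 6, true⟩) (lall (memL L) [8, 11, 3, 5, 2]) = true := by decide +kernel

theorem rot11_6 : T.rot 11 [3, 5, 2, 11, 8] (sel (ones 56) ip11 6) = true := by decide +kernel

theorem rot11_6r : band (Rule.ok (2 * 0) EX RL ⟨11 :: [3, 5, 2, 11, 8], [8, 2], 6, true⟩) (lall (memL L) [3, 5, 2, 11, 8]) = true := by decide +kernel

theorem rot11_7 : T.rot 11 [9, 5, 2, 5, 8] (sel (ones 56) ip11 7) = true := by decide +kernel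

theorem rot11_7r : band (Rule.ok (2 * 0) EX RL ⟨11 :: [9, 5, 2, 5, 8], [2], 6, false⟩) (lall (memL L) [9, 5, 2, 5, 8]) = true := by decide +kernel

theorem rot11_8 : T.rot 11 [4, 5, 3, 4, 9] (sel (ones 56) ip11 8) = true := by decide +kernel

theorem rot11_8r : band (Rule.ok (2 * 0) EX RL ⟨11 :: [4, 5, 3, 4, 9], [7, 4], 7, true⟩) (lall (memL L) [4, 5, 3, 4, 9]) = true := by decide +kernel

theorem rot11_9 : T.rot 11 [10, 5, 3, 10, 9] (sel (ones 56) ip11 9) = true := by decide +kernel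

theorem rot11_9r : band (Rule.ok (2 * 0) EX RL ⟨11 :: [10, 5, 3, 10, 9], [4], 7, false⟩) (lall (memL L) [10, 5, 3, 10, 9]) = true := by decide +kernel

theorem rot11_10 : T.rot 11 [10, 11, 3, 5, 4] (sel (ones 56) ip11 10) = true := by decide +kernel

theorem rot11_10r : band (Rule.ok (2 * 0) EX RL ⟨11 :: [10, 11, 3, 5, 4], [], 8, true⟩) (lall (memL L) [10, 11, 3, 5, 4]) = true := by decide +kernel

theorem rot11_11 : T.rot 11 [9, 5, 4, 5, 10] (sel (ones 56) ip11 11) = true := by decide +kernel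

theorem rot11_11r : band (Rule.ok (2 * 0) EX RL ⟨11 :: [9, 5, 4, 5, 10], [6], 8, false⟩) (lall (memL L) [9, 5, 4, 5, 10]) = true := by decide +kernel

theorem rot11_12 : T.rot 11 [3, 5, 9, 5, 3] (sel (ones 56) ip11 12) = true := by decide +kernel

theorem rot11_12r : band (Rule.ok (2 * 0) EX RL ⟨11 :: [3, 5, 9, 5, 3], [4, 9], 9, true⟩) (lall (memL L) [3, 5, 9, 5, 3]) = true := by decide +kernel

theorem rot11_13 : T.rot 11 [6, 3, 6, 9, 12] (sel (ones 56) ip11 13) = true := by decide +kernel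

theorem rot11_13r : band (Rule.ok (2 * 0) EX RL ⟨11 :: [6, 3, 6, 9, 12], [4, 10], 13, false⟩) (lall (memL L) [6, 3, 6, 9, 12]) = true := by decide +kernel

theorem cov11 : T.cover 11 [(sel (ones 56) ip11 1), (sel (ones 56) ip11 2), (sel (ones 56) ip11 3), (sel (ones 56) ip11 4), (sel (ones 56) ip11 5), (sel (ones 56) ip11 6), (sel (ones 56) ip11 7), (sel (ones 56) ip11 8), (sel (ones 56) ip11 9), (sel (ones 56) ip11 10), (sel (ones 56) ip11 11), (sel (ones 56) ip11 12), (sel (ones 56) ip11 13)] = true := by decide +kernel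

theorem tl11 : T.treeLt 6 11 = true := by decide +kernel

theorem rot12_1 : T.rot 12 [6] (sel (ones 56) ip12 1) = true := by decide +kernel

theorem rot12_1r : band (Rule.ok (2 * 0) EX RL ⟨12 :: [6], [], 20, false⟩) (lall (memL L) [6]) = true := by decide +kernel

theorem rot12_2 : T.rot 12 [12, 12] (sel (ones 56) ip12 2) = true := by decide +kernel

theorem rot12_2r : band (Rule.ok (2 * 0) EX RL ⟨12 :: [12, 12], [], 19, false⟩) (lall (memL L) [12, 12]) = true := by decide +kernel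

theorem rot12_3 : T.rot 12 [7, 6, 1] (sel (ones 56) ip12 3) = true := by decide +kernel

theorem rot12_3r : band (Rule.ok (2 * 0) EX RL ⟨12 :: [7, 6, 1], [], 10, true⟩) (lall (memL L) [7, 6, 1]) = true := by decide +kernel

theorem rot12_4 : T.rot 12 [1, 6, 7] (sel (ones 56) ip12 4) = true := by decide +kernel

theorem rot12_4r : band (Rule.ok (2 * 0) EX RL ⟨12 :: [1, 6, 7], [0], 10, false⟩) (lall (memL L) [1, 6, 7]) = true := by decide +kernel

theorem rot12_5 : T.rot 12 [8, 6, 2] (sel (ones 56) ip12 5) = true := by decide +kernel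

theorem rot12_5r : band (Rule.ok (2 * 0) EX RL ⟨12 :: [8, 6, 2], [], 11, true⟩) (lall (memL L) [8, 6, 2]) = true := by decide +kernel

theorem rot12_6 : T.rot 12 [10, 6, 4] (sel (ones 56) ip12 6) = true := by decide +kernel

theorem rot12_6r : band (Rule.ok (2 * 0) EX RL ⟨12 :: [10, 6, 4], [], 12, true⟩) (lall (memL L) [10, 6, 4]) = true := by decide +kernel

theorem rot12_7 : T.rot 12 [4, 6, 10] (sel (ones 56) ip12 7) = true := by decide +kernel

theorem rot12_7r : band (Rule.ok (2 * 0) EX RL ⟨12 :: [4, 6, 10], [6], 12, false⟩) (lall (memL L) [4, 6, 10]) = true := by decide +kernel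

theorem rot12_8 : T.rot 12 [9, 12, 5, 6, 3] (sel (ones 56) ip12 8) = true := by decide +kernel

theorem rot12_8r : band (Rule.ok (2 * 0) EX RL ⟨12 :: [9, 12, 5, 6, 3], [], 13, true⟩) (lall (memL L) [9, 12, 5, 6, 3]) = true := by decide +kernel

theorem rot12_9 : T.rot 12 [5, 6, 3, 12, 9] (sel (ones 56) ip12 9) = true := by decide +kernel

theorem rot12_9r : band (Rule.ok (2 * 0) EX RL ⟨12 :: [5, 6, 3, 12, 9], [10, 4], 13, true⟩) (lall (memL L) [5, 6, 3, 12, 9]) = true := by decide +kernel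

theorem rot12_10 : T.rot 12 [11, 6, 3, 6, 9] (sel (ones 56) ip12 10) = true := by decide +kernel

theorem rot12_10r : band (Rule.ok (2 * 0) EX RL ⟨12 :: [11, 6, 3, 6, 9], [4], 13, false⟩) (lall (memL L) [11, 6, 3, 6, 9]) = true := by decide +kernel

theorem cov12 : T.cover 12 [(sel (ones 56) ip12 1), (sel (ones 56) ip12 2), (sel (ones 56) ip12 3), (sel (ones 56) ip12 4), (sel (ones 56) ip12 5), (sel (ones 56) ip12 6), (sel (ones 56) ip12 7), (sel (ones 56) ip12 8), (sel (ones 56) ip12 9), (sel (ones 56) ip12 10)] = true := by decide +kernel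

theorem tl12 : T.treeLt 6 12 = true := by decide +kernel

end Cfsg.Agent.Spor.C3A
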