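import Cfsg.Agent.Spor.Cert
import Cfsg.Agent.Spor.C3A.C0

set_option autoImplicit false
set_option maxRecDepth 100000000
set_option Elab.async false
set_option linter.unusedSectionVars false

namespace Cfsg.Agent.Spor.C3A

theorem hT : T.Ok 6 := T.ok_of 6 (show AllP (fun n => Net.okb 6 n = true) [n0, n1, n2, n3, n4, n5] from AllP.cons ok0 (AllP.cons ok1 (AllP.cons ok2 (AllP.cons ok3 (AllP.cons ok4 (AllP.cons ok5 (AllP.nil)))))))

noncomputable def fP : ℕ → Equiv.Perm ℕ := T.fP gs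

theorem hsq : ∀ j < 0, j < 6 → T.fP gs j * T.fP gs j = 1 :=
  Tab.sq (show AllP (fun z => evA T.τ [z, z] = 1) [] from AllP.nil) 6 rfl

theorem hiv : IvOk (2 * 0) (atm 6 (T.fP gs)) := ivOk_atm hsq

theorem pz1 : PZ T (atm 6 (T.fP gs)) EX 1 := PZ.of_atom (y := 2 * 0) (by decide +kernel) (atm_two_mul _ (by decide))
theorem pz2 : PZ T (atm 6 (T.fP gs)) EX 2 := PZ.of_atom (y := 2 * 1) (by decide +kernel) (atm_two_mul _ (by decide))
theorem pz3 : PZ T (atm 6 (T.fP gs)) EX 3 := PZ.of_atom (y := 2 * 2) (by decide +kernel) (atm_two_mul _ (by decide))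
theorem pz4 : PZ T (atm 6 (T.fP gs)) EX 4 := PZ.of_atom (y := 2 * 3) (by decide +kernel) (atm_two_mul _ (by decide))
theorem pz5 : PZ T (atm 6 (T.fP gs)) EX 5 := PZ.of_atom (y := 2 * 4) (by decide +kernel) (atm_two_mul _ (by decide))
theorem pz6 : PZ T (atm 6 (T.fP gs)) EX 6 := PZ.of_atom (y := 2 * 5) (by decide +kernel) (atm_two_mul _ (by decide))
theorem pz7 : PZ T (atm 6 (T.fP gs)) EX 7 := PZ.of_inv hiv pz1 (by decide +kernel)
theorem pz8 : PZ T (atm 6 (T.fP gs)) EX 8 := PZ.of_inv hiv pz2 (by decide +kernel)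
theorem pz9 : PZ T (atm 6 (T.fP gs)) EX 9 := PZ.of_inv hiv pz3 (by decide +kernel)
theorem pz10 : PZ T (atm 6 (T.fP gs)) EX 10 := PZ.of_inv hiv pz4 (by decide +kernel)
theorem pz11 : PZ T (atm 6 (T.fP gs)) EX 11 := PZ.of_inv hiv pz5 (by decide +kernel)
theorem pz12 : PZ T (atm 6 (T.fP gs)) EX 12 := PZ.of_inv hiv pz6 (by decide +kernel)
theorem hPZ : AllP (PZ T (atm 6 (T.fP gs)) EX) L :=
  show AllP (PZ T (atm 6 (T.fP gs)) EX) [1, 2, 3, 4, 5, 6, 7, 8, 9, 10, 11, 12] from AllP.cons pz1 (AllP.cons pz2 (AllP.cons pz3 (AllP.cons pz4 (AllP.cons pz5 (AllP.cons pz6 (AllP.cons pz7 (AllP.cons pz8 (AllP.cons pz9 (AllP.cons pz10 (AllP.cons pz11 (AllP.cons pz12 (AllP.nil))))))))))))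

theorem hrel : ∀ l ∈ RL, ev (atm 6 (T.fP gs)) l = 1 :=
  relAll_sound hiv (W := [[9, 7, 9, 2, 3, 1], [1, 8, 9, 1, 3, 2], [3, 8, 3, 2, 9, 2], [4, 7, 8, 4, 2, 1], [1, 8, 4, 1, 10, 2], [11, 7, 5, 1], [11, 8, 11, 3, 5, 2], [4, 9, 11, 4, 5, 3], [11, 10, 11, 3, 5, 4], [5, 9, 5, 3, 11, 3], [12, 7, 6, 1], [12, 8, 6, 2], [12, 10, 6, 4], [12, 9, 12, 5, 6, 3], [1, 1, 1], [2, 2, 2], [3, 3, 3], [4, 4, 4], [5, 5, 5], [6, 6, 6]]) (rules := [⟨[9, 7, 9, 2, 3, 1], [], 0, true⟩, ⟨[1, 8, 9, 1, 3, 2], [], 1, true⟩, ⟨[3, 8, 3, 2, 9, 2], [], 2, true⟩, ⟨[4, 7, 8, 4, 2, 1], [], 3, true⟩, ⟨[1, 8, 4, 1, 10, 2], [], 4, true⟩, ⟨[11, 7, 5, 1], [], 5, true⟩, ⟨[11, 8, 11, 3, 5, 2], [], 6, true⟩, ⟨[4, 9, 11, 4, 5, 3], [], 7, true⟩, ⟨[11, 10, 11, 3, 5, 4], [], 8, true⟩, ⟨[5, 9, 5, 3, 11, 3], [], 9, true⟩, ⟨[12, 7, 6, 1], [], 10, true⟩, ⟨[12, 8, 6, 2], [], 11, true⟩, ⟨[12, 10, 6, 4], [], 12, true⟩, ⟨[12,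 9, 12, 5, 6, 3], [], 13, true⟩, ⟨[1, 1, 1], [], 14, true⟩, ⟨[2, 2, 2], [], 15, true⟩, ⟨[3, 3, 3], [], 16, true⟩, ⟨[4, 4, 4], [], 17, true⟩, ⟨[5, 5, 5], [], 18, true⟩, ⟨[6, 6, 6], [], 19, true⟩]) hPZ (AllP.cons (hT.one rel0) (AllP.cons (hT.one rel1) (AllP.cons (hT.one rel2) (AllP.cons (hT.one rel3) (AllP.cons (hT.one rel4) (AllP.cons (hT.one rel5) (AllP.cons (hT.one rel6) (AllP.cons (hT.one rel7) (AllP.cons (hT.one rel8) (AllP.cons (hT.one rel9) (AllP.cons (hT.one rel10) (AllP.cons (hT.one rel11) (AllP.cons (hT.one rel12) (AllP.cons (hT.one rel13) (AllP.cons (hT.one rel14) (AllP.cons (hT.one rel15) (AllP.cons (hT.one rel16) (AllP.cons (hT.one rel17) (AllP.cons (hT.one rel18) (AllP.cons (hT.one rel19) (AllP.nil))))))))))))))))))))) (by decide +kernel)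

section
variable {G : Type} [Group G] {a : ℕ → G} (hi : IvOk (2 * 0) a) (hR : ∀ r ∈ RL, ev a r = 1)
  {H : Subgroup G} (hb : ∀ z ∈ base, letV a EX z ∈ H)
include hi hR hb

theorem let1 : LetOk H (letV a EX) T L 1 :=
  LetOk.of hT tl1 cov1 (AllP.cons (Just.rot hT hi hR rot1_1 rot1_1r) (AllP.cons (Just.rot hT hi hR rot1_2 rot1_2r) (AllP.cons (Just.rot hT hi hR rot1_3 rot1_3r) (AllP.cons (Just.rot hT hi hR rot1_4 rot1_4r) (AllP.cons (Just.rot hT hi hR rot1_5 rot1_5r) (AllP.cons (Just.rot hT hi hR rot1_6 rot1_6r) (AllP.cons (Just.rot hT hi hR rot1_7 rot1_7r) (AllP.cons (Just.rot hT hi hR rot1_8 rot1_8r) (AllP.cons (Just.rot hT hi hR rot1_9 rot1_9r) (AllP.cons (Just.rot hT hi hR rot1_10 rot1_10r) (AllP.cons (Just.rot hT hi hR rot1_11 rot1_11r) (AllP.cons (Just.base (hb 1 (by decide))) (AllP.nil)))))))))))))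
theorem let2 : LetOk H (letV a EX) T L 2 :=
  LetOk.of hT tl2 cov2 (AllP.cons (Just.rot hT hi hR rot2_1 rot2_1r) (AllP.cons (Just.rot hT hi hR rot2_2 rot2_2r) (AllP.cons (Just.rot hT hi hR rot2_3 rot2_3r) (AllP.cons (Just.rot hT hi hR rot2_4 rot2_4r) (AllP.cons (Just.rot hT hi hR rot2_5 rot2_5r) (AllP.cons (Just.rot hT hi hR rot2_6 rot2_6r) (AllP.cons (Just.rot hT hi hR rot2_7 rot2_7r) (AllP.cons (Just.rot hT hi hR rot2_8 rot2_8r) (AllP.cons (Just.rot hT hi hR rot2_9 rot2_9r) (AllP.cons (Just.rot hT hi hR rot2_10 rot2_10r) (AllP.cons (Just.rot hT hi hR rot2_11 rot2_11r) (AllP.cons (Just.rot hT hi hR rot2_12 rot2_12r) (AllP.cons (Just.rot hT hi hR rot2_13 rot2_13r) (AllP.cons (Just.rot hT hi hR rot2_14 rot2_14r) (AllP.cons (Just.base (hb 2 (by decide))) (AllP.nil))))))))))))))))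
theorem let3 : LetOk H (letV a EX) T L 3 :=
  LetOk.of hT tl3 cov3 (AllP.cons (Just.rot hT hi hR rot3_1 rot3_1r) (AllP.cons (Just.rot hT hi hR rot3_2 rot3_2r) (AllP.cons (Just.rot hT hi hR rot3_3 rot3_3r) (AllP.cons (Just.rot hT hi hR rot3_4 rot3_4r) (AllP.cons (Just.rot hT hi hR rot3_5 rot3_5r) (AllP.cons (Just.rot hT hi hR rot3_6 rot3_6r) (AllP.cons (Just.rot hT hi hR rot3_7 rot3_7r) (AllP.cons (Just.rot hT hi hR rot3_8 rot3_8r) (AllP.cons (Just.rot hT hi hR rot3_9 rot3_9r) (AllP.cons (Just.rot hT hi hR rot3_10 rot3_10r) (AllP.cons (Just.rot hT hi hR rot3_11 rot3_11r) (AllP.cons (Just.rot hT hi hR rot3_12 rot3_12r) (AllP.cons (Just.rot hT hi hR rot3_13 rot3_13r) (AllP.cons (Just.rot hT hi hR rot3_14 rot3_14r) (AllP.cons (Just.rot hT hi hR rot3_15 rot3_15r) (AllP.cons (Just.rot hT hi hR rot3_16 rot3_16r) (AllP.cons (Just.base (hb 3 (by decide))) (AllP.nil))))))))))))))))))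
theorem let4 : LetOk H (letV a EX) T L 4 :=
  LetOk.of hT tl4 cov4 (AllP.cons (Just.rot hT hi hR rot4_1 rot4_1r) (AllP.cons (Just.rot hT hi hR rot4_2 rot4_2r) (AllP.cons (Just.rot hT hi hR rot4_3 rot4_3r) (AllP.cons (Just.rot hT hi hR rot4_4 rot4_4r) (AllP.cons (Just.rot hT hi hR rot4_5 rot4_5r) (AllP.cons (Just.rot hT hi hR rot4_6 rot4_6r) (AllP.cons (Just.rot hT hi hR rot4_7 rot4_7r) (AllP.cons (Just.rot hT hi hR rot4_8 rot4_8r) (AllP.cons (Just.rot hT hi hR rot4_9 rot4_9r) (AllP.cons (Just.rot hT hi hR rot4_10 rot4_10r) (AllP.cons (Just.base (hb 4 (by decide))) (AllP.nil))))))))))))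
theorem let5 : LetOk H (letV a EX) T L 5 :=
  LetOk.of hT tl5 cov5 (AllP.cons (Just.rot hT hi hR rot5_1 rot5_1r) (AllP.cons (Just.rot hT hi hR rot5_2 rot5_2r) (AllP.cons (Just.rot hT hi hR rot5_3 rot5_3r) (AllP.cons (Just.rot hT hi hR rot5_4 rot5_4r) (AllP.cons (Just.rot hT hi hR rot5_5 rot5_5r) (AllP.cons (Just.rot hT hi hR rot5_6 rot5_6r) (AllP.cons (Just.rot hT hi hR rot5_7 rot5_7r) (AllP.cons (Just.rot hT hi hR rot5_8 rot5_8r) (AllP.cons (Just.rot hT hi hR rot5_9 rot5_9r) (AllP.cons (Just.rot hT hi hR rot5_10 rot5_10r) (AllP.cons (Just.rot hT hi hR rot5_11 rot5_11r) (AllP.cons (Just.rot hT hi hR rot5_12 rot5_12r) (AllP.cons (Just.rot hT hi hR rot5_13 rot5_13r) (AllP.cons (Just.rot hT hi hR rot5_14 rot5_14r) (AllP.cons (Just.base (hb 5 (by decide))) (AllP.nil))))))))))))))))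
theorem let6 : LetOk H (letV a EX) T L 6 :=
  LetOk.of hT tl6 cov6 (AllP.cons (Just.rot hT hi hR rot6_1 rot6_1r) (AllP.cons (Just.rot hT hi hR rot6_2 rot6_2r) (AllP.cons (Just.rot hT hi hR rot6_3 rot6_3r) (AllP.cons (Just.rot hT hi hR rot6_4 rot6_4r) (AllP.cons (Just.rot hT hi hR rot6_5 rot6_5r) (AllP.cons (Just.rot hT hi hR rot6_6 rot6_6r) (AllP.cons (Just.rot hT hi hR rot6_7 rot6_7r) (AllP.cons (Just.rot hT hi hR rot6_8 rot6_8r) (AllP.cons (Just.rot hT hi hR rot6_9 rot6_9r) (AllP.cons (Just.rot hT hi hR rot6_10 rot6_10r) (AllP.cons (Just.rot hT hi hR rot6_11 rot6_11r) (AllP.nil))))))))))))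
theorem let7 : LetOk H (letV a EX) T L 7 :=
  LetOk.of hT tl7 cov7 (AllP.cons (Just.rot hT hi hR rot7_1 rot7_1r) (AllP.cons (Just.rot hT hi hR rot7_2 rot7_2r) (AllP.cons (Just.rot hT hi hR rot7_3 rot7_3r) (AllP.cons (Just.rot hT hi hR rot7_4 rot7_4r) (AllP.cons (Just.rot hT hi hR rot7_5 rot7_5r) (AllP.cons (Just.rot hT hi hR rot7_6 rot7_6r) (AllP.cons (Just.rot hT hi hR rot7_7 rot7_7r) (AllP.cons (Just.rot hT hi hR rot7_8 rot7_8r) (AllP.cons (Just.rot hT hi hR rot7_9 rot7_9r) (AllP.cons (Just.rot hT hi hR rot7_10 rot7_10r) (AllP.cons (Just.rot hT hi hR rot7_11 rot7_11r) (AllP.nil))))))))))))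
theorem let8 : LetOk H (letV a EX) T L 8 :=
  LetOk.of hT tl8 cov8 (AllP.cons (Just.rot hT hi hR rot8_1 rot8_1r) (AllP.cons (Just.rot hT hi hR rot8_2 rot8_2r) (AllP.cons (Just.rot hT hi hR rot8_3 rot8_3r) (AllP.cons (Just.rot hT hi hR rot8_4 rot8_4r) (AllP.cons (Just.rot hT hi hR rot8_5 rot8_5r) (AllP.cons (Just.rot hT hi hR rot8_6 rot8_6r) (AllP.cons (Just.rot hT hi hR rot8_7 rot8_7r) (AllP.cons (Just.rot hT hi hR rot8_8 rot8_8r) (AllP.cons (Just.rot hT hi hR rot8_9 rot8_9r) (AllP.cons (Just.rot hT hi hR rot8_10 rot8_10r) (AllP.cons (Just.rot hT hi hR rot8_11 rot8_11r) (AllP.cons (Just.rot hT hi hR rot8_12 rot8_12r) (AllP.cons (Just.rot hT hi hR rot8_13 rot8_13r) (AllP.cons (Just.rot hT hi hR rot8_14 rot8_14r) (AllP.nil)))))))))))))))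
theorem let9 : LetOk H (letV a EX) T L 9 :=
  LetOk.of hT tl9 cov9 (AllP.cons (Just.rot hT hi hR rot9_1 rot9_1r) (AllP.cons (Just.rot hT hi hR rot9_2 rot9_2r) (AllP.cons (Just.rot hT hi hR rot9_3 rot9_3r) (AllP.cons (Just.rot hT hi hR rot9_4 rot9_4r) (AllP.cons (Just.rot hT hi hR rot9_5 rot9_5r) (AllP.cons (Just.rot hT hi hR rot9_6 rot9_6r) (AllP.cons (Just.rot hT hi hR rot9_7 rot9_7r) (AllP.cons (Just.rot hT hi hR rot9_8 rot9_8r) (AllP.cons (Just.rot hT hi hR rot9_9 rot9_9r) (AllP.cons (Just.rot hT hi hR rot9_10 rot9_10r) (AllP.cons (Just.rot hT hi hR rot9_11 rot9_11r) (AllP.cons (Just.rot hT hi hR rot9_12 rot9_12r) (AllP.cons (Just.rot hT hi hR rot9_13 rot9_13r) (AllP.cons (Just.rot hT hi hR rot9_14 rot9_14r) (AllP.cons (Just.rot hT hi hR rot9_15 rot9_15r) (AllP.cons (Just.rot hT hi hR rot9_16 rot9_16r) (AllP.nil)))))))))))))))))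
theorem let10 : LetOk H (letV a EX) T L 10 :=
  LetOk.of hT tl10 cov10 (AllP.cons (Just.rot hT hi hR rot10_1 rot10_1r) (AllP.cons (Just.rot hT hi hR rot10_2 rot10_2r) (AllP.cons (Just.rot hT hi hR rot10_3 rot10_3r) (AllP.cons (Just.rot hT hi hR rot10_4 rot10_4r) (AllP.cons (Just.rot hT hi hR rot10_5 rot10_5r) (AllP.cons (Just.rot hT hi hR rot10_6 rot10_6r) (AllP.cons (Just.rot hT hi hR rot10_7 rot10_7r) (AllP.cons (Just.rot hT hi hR rot10_8 rot10_8r) (AllP.cons (Just.rot hT hi hR rot10_9 rot10_9r) (AllP.cons (Just.rot hT hi hR rot10_10 rot10_10r) (AllP.nil)))))))))))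
theorem let11 : LetOk H (letV a EX) T L 11 :=
  LetOk.of hT tl11 cov11 (AllP.cons (Just.rot hT hi hR rot11_1 rot11_1r) (AllP.cons (Just.rot hT hi hR rot11_2 rot11_2r) (AllP.cons (Just.rot hT hi hR rot11_3 rot11_3r) (AllP.cons (Just.rot hT hi hR rot11_4 rot11_4r) (AllP.cons (Just.rot hT hi hR rot11_5 rot11_5r) (AllP.cons (Just.rot hT hi hR rot11_6 rot11_6r) (AllP.cons (Just.rot hT hi hR rot11_7 rot11_7r) (AllP.cons (Just.rot hT hi hR rot11_8 rot11_8r) (AllP.cons (Just.rot hT hi hR rot11_9 rot11_9r) (AllP.cons (Just.rot hT hi hR rot11_10 rot11_10r) (AllP.cons (Just.rot hT hi hR rot11_11 rot11_11r) (AllP.cons (Just.rot hT hi hR rot11_12 rot11_12r) (AllP.cons (Just.rot hT hi hR rot11_13 rot11_13r) (AllP.nil))))))))))))))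
theorem let12 : LetOk H (letV a EX) T L 12 :=
  LetOk.of hT tl12 cov12 (AllP.cons (Just.rot hT hi hR rot12_1 rot12_1r) (AllP.cons (Just.rot hT hi hR rot12_2 rot12_2r) (AllP.cons (Just.rot hT hi hR rot12_3 rot12_3r) (AllP.cons (Just.rot hT hi hR rot12_4 rot12_4r) (AllP.cons (Just.rot hT hi hR rot12_5 rot12_5r) (AllP.cons (Just.rot hT hi hR rot12_6 rot12_6r) (AllP.cons (Just.rot hT hi hR rot12_7 rot12_7r) (AllP.cons (Just.rot hT hi hR rot12_8 rot12_8r) (AllP.cons (Just.rot hT hi hR rot12_9 rot12_9r) (AllP.cons (Just.rot hT hi hR rot12_10 rot12_10r) (AllP.nil)))))))))))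
theorem hlet : AllP (LetOk H (letV a EX) T L) L :=
  show AllP (LetOk H (letV a EX) T L) [1, 2, 3, 4, 5, 6, 7, 8, 9, 10, 11, 12] from AllP.cons (let1 hi hR hb) (AllP.cons (let2 hi hR hb) (AllP.cons (let3 hi hR hb) (AllP.cons (let4 hi hR hb) (AllP.cons (let5 hi hR hb) (AllP.cons (let6 hi hR hb) (AllP.cons (let7 hi hR hb) (AllP.cons (let8 hi hR hb) (AllP.cons (let9 hi hR hb) (AllP.cons (let10 hi hR hb) (AllP.cons (let11 hi hR hb) (AllP.cons (let12 hi hR hb) (AllP.nil))))))))))))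
end

theorem cert : Cert 6 0 RL BW fP 56 :=
  Cert.of hT ⟨hsq, hrel⟩ hPZ (fun _ _ _ hi hR _ hb => hlet hi hR hb) hcov hg (by decide +kernel)

end Cfsg.Agent.Spor.C3A
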