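import Cfsg.Agent.Spor.Chk

set_option autoImplicit false
set_option maxRecDepth 100000000
set_option Elab.async false
noncomputable section

namespace Cfsg.Agent.Spor.C3A

def m0_0 : Nat := nat_lit 0x40000000
def m0_1 : Nat := nat_lit 0x620100004004
def m0_2 : Nat := nat_lit 0x5400500085
def m0_3 : Nat := nat_lit 0x80704040808
def m0_4 : Nat := nat_lit 0x1000111110012001
def m0_5 : Nat := nat_lit 0x1004444100041444
def m0_6 : Nat := nat_lit 0x1002010100000220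
def m0_7 : Nat := nat_lit 0x200010400040208
def m0_8 : Nat := nat_lit 0xc400500001
def m0_9 : Nat := nat_lit 0x620100004004
def m0_10 : Nat := nat_lit 0x40000000
def n0 : Net := Net.cons 32 m0_0 (Net.cons 16 m0_1 (Net.cons 8 m0_2 (Net.cons 4 m0_3 (Net.cons 2 m0_4 (Net.cons 1 m0_5 (Net.cons 2 m0_6 (Net.cons 4 m0_7 (Net.cons 8 m0_8 (Net.cons 16 m0_9 (Net.cons 32 m0_10 (Net.nil)))))))))))

def m1_0 : Nat := nat_lit 0x2
def m1_1 : Nat := nat_lit 0x100001136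
def m1_2 : Nat := nat_lit 0x100400080
def m1_3 : Nat := nat_lit 0x1010c00050202
def m1_4 : Nat := nat_lit 0x1001100011000
def m1_5 : Nat := nat_lit 0x4414401051414
def m1_6 : Nat := nat_lit 0x100001000012
def m1_7 : Nat := nat_lit 0x1030001050806
def m1_8 : Nat := nat_lit 0x1005000a2
def m1_9 : Nat := nat_lit 0x10000432e
def m1_10 : Nat := nat_lit 0x2
def n1 : Net := Net.cons 32 m1_0 (Net.cons 16 m1_1 (Net.cons 8 m1_2 (Net.cons 4 m1_3 (Net.cons 2 m1_4 (Net.cons 1 m1_5 (Net.cons 2 m1_6 (Net.cons 4 m1_7 (Net.cons 8 m1_8 (Net.cons 16 m1_9 (Net.cons 32 m1_10 (Net.nil)))))))))))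

def m2_0 : Nat := nat_lit 0xbe
def m2_1 : Nat := nat_lit 0x9200000010
def m2_2 : Nat := nat_lit 0x800080c010001
def m2_3 : Nat := nat_lit 0x201102000021
def m2_4 : Nat := nat_lit 0x10404544010501
def m2_5 : Nat := nat_lit 0x20100010020000
def m2_6 : Nat := nat_lit 0x8040100010a09
def m2_7 : Nat := nat_lit 0x600000010
def m2_8 : Nat := nat_lit 0xbe
def n2 : Net := Net.cons 16 m2_0 (Net.cons 8 m2_1 (Net.cons 4 m2_2 (Net.cons 2 m2_3 (Net.cons 1 m2_4 (Net.cons 2 m2_5 (Net.cons 4 m2_6 (Net.cons 8 m2_7 (Net.cons 16 m2_8 (Net.nil)))))))))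

def m3_0 : Nat := nat_lit 0xa0000001
def m3_1 : Nat := nat_lit 0x800f00000001
def m3_2 : Nat := nat_lit 0xa0000200830060
def m3_3 : Nat := nat_lit 0x4000500080400
def m3_4 : Nat := nat_lit 0x10000011210010
def m3_5 : Nat := nat_lit 0x50500441010540
def m3_6 : Nat := nat_lit 0x100000010
def m3_7 : Nat := nat_lit 0xc020000080208
def m3_8 : Nat := nat_lit 0xa0004200880060
def m3_9 : Nat := nat_lit 0x1300000001
def m3_10 : Nat := nat_lit 0xa0000001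
def n3 : Net := Net.cons 32 m3_0 (Net.cons 16 m3_1 (Net.cons 8 m3_2 (Net.cons 4 m3_3 (Net.cons 2 m3_4 (Net.cons 1 m3_5 (Net.cons 2 m3_6 (Net.cons 4 m3_7 (Net.cons 8 m3_8 (Net.cons 16 m3_9 (Net.cons 32 m3_10 (Net.nil)))))))))))

def m4_0 : Nat := nat_lit 0xb900
def m4_1 : Nat := nat_lit 0x8200110000
def m4_2 : Nat := nat_lit 0x50202010401
def m4_3 : Nat := nat_lit 0x10000001212301
def m4_4 : Nat := nat_lit 0x10141404040501
def m4_5 : Nat := nat_lit 0x201101000000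
def m4_6 : Nat := nat_lit 0x10208030701
def m4_7 : Nat := nat_lit 0x8200110000
def m4_8 : Nat := nat_lit 0x9b00
def n4 : Net := Net.cons 16 m4_0 (Net.cons 8 m4_1 (Net.cons 4 m4_2 (Net.cons 2 m4_3 (Net.cons 1 m4_4 (Net.cons 2 m4_5 (Net.cons 4 m4_6 (Net.cons 8 m4_7 (Net.cons 16 m4_8 (Net.nil)))))))))

def m5_0 : Nat := nat_lit 0x59000000
def m5_1 : Nat := nat_lit 0x50010000e080
def m5_2 : Nat := nat_lit 0x1000500960000
def m5_3 : Nat := nat_lit 0x10000030000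
def m5_4 : Nat := nat_lit 0x100013110102001
def m5_5 : Nat := nat_lit 0x440040510440001
def m5_6 : Nat := nat_lit 0x120000000000000
def m5_7 : Nat := nat_lit 0x10a00010000
def m5_8 : Nat := nat_lit 0x4900900080
def m5_9 : Nat := nat_lit 0x50010000e080
def m5_10 : Nat := nat_lit 0x59000000
def n5 : Net := Net.cons 32 m5_0 (Net.cons 16 m5_1 (Net.cons 8 m5_2 (Net.cons 4 m5_3 (Net.cons 2 m5_4 (Net.cons 1 m5_5 (Net.cons 2 m5_6 (Net.cons 4 m5_7 (Net.cons 8 m5_8 (Net.cons 16 m5_9 (Net.cons 32 m5_10 (Net.nil)))))))))))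

def cl1 : Nat := nat_lit 0xffffffffffffff
def tt1 : Nat := nat_lit 0x442000000020
def tm1_0 : Nat := nat_lit 0xc17c02bd427dd0
def tm1_1 : Nat := nat_lit 0xf01ded0043f7b6
def tm1_2 : Nat := nat_lit 0xe000044fea00
def tm1_3 : Nat := nat_lit 0xfe0000044fff80
def tm1_4 : Nat := nat_lit 0xfefdafbbb00000
def ip1_0 : Nat := nat_lit 0x5f700db9e68dd2
def ip1_1 : Nat := nat_lit 0xdefdef9fb63fa4
def ip1_2 : Nat := nat_lit 0x901040262b4806
def ip1_3 : Nat := nat_lit 0x2e018f19409590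
def ip1 : List Nat := [ip1_0, ip1_1, ip1_2, ip1_3]
def l1 : Let := ⟨0, false, cl1, tt1, [tm1_0, tm1_1, tm1_2, tm1_3, tm1_4]⟩

def cl2 : Nat := nat_lit 0xffffffffffffff
def tt2 : Nat := nat_lit 0x200001000
def tm2_0 : Nat := nat_lit 0xd78e5306e07410
def tm2_1 : Nat := nat_lit 0xe9425f4f876066
def tm2_2 : Nat := nat_lit 0x1fda006c7fe88
def tm2_3 : Nat := nat_lit 0xfe000006df9ef0
def tm2_4 : Nat := nat_lit 0xfffff3e9000000
def ip2_0 : Nat := nat_lit 0x46ba5569a0a29a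
def ip2_1 : Nat := nat_lit 0xfc5f7690d56f2
def ip2_2 : Nat := nat_lit 0xd0ce2886d1ec2c
def ip2_3 : Nat := nat_lit 0x76305149876e90
def ip2 : List Nat := [ip2_0, ip2_1, ip2_2, ip2_3]
def l2 : Let := ⟨1, false, cl2, tt2, [tm2_0, tm2_1, tm2_2, tm2_3, tm2_4]⟩

def cl3 : Nat := nat_lit 0xffffffffffffff
def tt3 : Nat := nat_lit 0x900000020008
def tm3_0 : Nat := nat_lit 0xf2a23aea9ceab4
def tm3_1 : Nat := nat_lit 0xc1103f51cb03ec
def tm3_2 : Nat := nat_lit 0x41c94004cf4f04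
def tm3_3 : Nat := nat_lit 0x9e000004de0cc0
def tm3_4 : Nat := nat_lit 0xdfc97ffb200000
def ip3_0 : Nat := nat_lit 0x2d6b26a0e4a570
def ip3_1 : Nat := nat_lit 0x1c911ea92e0f4c
def ip3_2 : Nat := nat_lit 0xc3492470bd40a4
def ip3_3 : Nat := nat_lit 0xce004cb9d14584
def ip3_4 : Nat := nat_lit 0x106000000
def ip3 : List Nat := [ip3_0, ip3_1, ip3_2, ip3_3, ip3_4]
def l3 : Let := ⟨2, false, cl3, tt3, [tm3_0, tm3_1, tm3_2, tm3_3, tm3_4]⟩

def cl4 : Nat := nat_lit 0xffffffffffffff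
def tt4 : Nat := nat_lit 0xc000018000500
def tm4_0 : Nat := nat_lit 0x7621bc4523ea90
def tm4_1 : Nat := nat_lit 0x8cbc4db0627506
def tm4_2 : Nat := nat_lit 0x4bfa20063f000
def tm4_3 : Nat := nat_lit 0xe0000000739018
def tm4_4 : Nat := nat_lit 0xe4bfa20e040000
def ip4_0 : Nat := nat_lit 0x3213966363ba8a
def ip4_1 : Nat := nat_lit 0x4c2da63e265512
def ip4_2 : Nat := nat_lit 0x800deb82739004
def ip4_3 : Nat := nat_lit 0x60920000006008
def ip4 : List Nat := [ip4_0, ip4_1, ip4_2, ip4_3]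
def l4 : Let := ⟨3, false, cl4, tt4, [tm4_0, tm4_1, tm4_2, tm4_3, tm4_4]⟩

def cl5 : Nat := nat_lit 0xffffffffffffff
def tm5_0 : Nat := nat_lit 0xdc746e19794f4a
def tm5_1 : Nat := nat_lit 0x99806ff4242c86
def tm5_2 : Nat := nat_lit 0x9dff901070a36e
def tm5_3 : Nat := nat_lit 0x22000014208c90
def tm5_4 : Nat := nat_lit 0xbfffffeb800000
def ip5_0 : Nat := nat_lit 0x5fa1d71da94f88
def ip5_1 : Nat := nat_lit 0xaf0787ff74a5be
def ip5_2 : Nat := nat_lit 0x80ffb0a6f00076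
def ip5_3 : Nat := nat_lit 0x9e344dfbd00fa4
def ip5 : List Nat := [ip5_0, ip5_1, ip5_2, ip5_3]
def l5 : Let := ⟨4, false, cl5, 0x840000, [tm5_0, tm5_1, tm5_2, tm5_3, tm5_4]⟩

def cl6 : Nat := nat_lit 0xffffffffffffff
def tt6 : Nat := nat_lit 0x8420000002
def tm6_0 : Nat := nat_lit 0xa369798f5ab0f4
def tm6_1 : Nat := nat_lit 0x1c00b4600b60ea
def tm6_2 : Nat := nat_lit 0x7ff60000079f10
def tm6_3 : Nat := nat_lit 0x600000000fe000
def tm6_4 : Nat := nat_lit 0x7ff20009200000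
def ip6_0 : Nat := nat_lit 0x92fb59ce720acc
def ip6_1 : Nat := nat_lit 0x729094682c7ada
def ip6_2 : Nat := nat_lit 0x130430480f9ab0
def ip6_3 : Nat := nat_lit 0x4cf20001204508
def ip6 : List Nat := [ip6_0, ip6_1, ip6_2, ip6_3]
def l6 : Let := ⟨5, false, cl6, tt6, [tm6_0, tm6_1, tm6_2, tm6_3, tm6_4]⟩

def cl7 : Nat := nat_lit 0xffffffffffffff
def tt7 : Nat := nat_lit 0x1000000000040
def tm7_0 : Nat := nat_lit 0xc0e7a0f95e0fb1
def tm7_1 : Nat := nat_lit 0xf089df001e7dd6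
def tm7_2 : Nat := nat_lit 0x12200005ff200
def tm7_3 : Nat := nat_lit 0xfe0000005fff80
def tm7_4 : Nat := nat_lit 0xffa3dfffa00000
def ip7_0 : Nat := nat_lit 0xae4c2d1b5945b5
def ip7_1 : Nat := nat_lit 0x2f01df7d0d5dc2
def ip7_2 : Nat := nat_lit 0xe02a00a2c08006
def ip7_3 : Nat := nat_lit 0x1e805d59322f90
def ip7 : List Nat := [ip7_0, ip7_1, ip7_2, ip7_3]
def l7 : Let := ⟨0, true, cl7, tt7, [tm7_0, tm7_1, tm7_2, tm7_3, tm7_4]⟩

def cl8 : Nat := nat_lit 0xffffffffffffff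
def tm8_0 : Nat := nat_lit 0xceec0f42dc1a41
def tm8_1 : Nat := nat_lit 0xf1a18d5b9f202e
def tm8_2 : Nat := nat_lit 0x1de7002dfaf90
def tm8_3 : Nat := nat_lit 0xfe000006f3afe8
def tm8_4 : Nat := nat_lit 0xfffe7df9000000
def ip8_0 : Nat := nat_lit 0x8fbb238f599cb5
def ip8_1 : Nat := nat_lit 0xefc151cff426ac
def ip8_2 : Nat := nat_lit 0x41ecac308d8972
def ip8_3 : Nat := nat_lit 0x7e120d198f2dc0
def ip8 : List Nat := [ip8_0, ip8_1, ip8_2, ip8_3]
def l8 : Let := ⟨1, true, cl8, 0x200000, [tm8_0, tm8_1, tm8_2, tm8_3, tm8_4]⟩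

def cl9 : Nat := nat_lit 0xffffffffffffff
def tt9 : Nat := nat_lit 0x2022000000a010
def tm9_0 : Nat := nat_lit 0xe2d223f43af0ad
def tm9_1 : Nat := nat_lit 0xc12273196d22f4
def tm9_2 : Nat := nat_lit 0x414d08026dfa04
def tm9_3 : Nat := nat_lit 0xb60000027c98c0
def tm9_4 : Nat := nat_lit 0xf74f7bfd800000
def ip9_0 : Nat := nat_lit 0xd39d638f334aed
def ip9_1 : Nat := nat_lit 0xc56f6ad29d4070
def ip9_2 : Nat := nat_lit 0x20014a8228b044
def ip9_3 : Nat := nat_lit 0xf60041cf59ea84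
def ip9_4 : Nat := nat_lit 0x1020000000
def ip9 : List Nat := [ip9_0, ip9_1, ip9_2, ip9_3, ip9_4]
def l9 : Let := ⟨2, true, cl9, tt9, [tm9_0, tm9_1, tm9_2, tm9_3, tm9_4]⟩

def cl10 : Nat := nat_lit 0xffffffffffffff
def tt10 : Nat := nat_lit 0x12001041000a80
def tm10_0 : Nat := nat_lit 0x6e81f1180de581
def tm10_1 : Nat := nat_lit 0x92ec5cc24c7a06
def tm10_2 : Nat := nat_lit 0x2efa2004df000
def tm10_3 : Nat := nat_lit 0xe00000005d9090
def tm10_4 : Nat := nat_lit 0xe2efa305200000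
def ip10_0 : Nat := nat_lit 0xcc6c689a114505
def ip10_1 : Nat := nat_lit 0xb2c249c370aa94
def ip10_2 : Nat := nat_lit 0x4c3400408002
def ip10_3 : Nat := nat_lit 0x602382040d7010
def ip10 : List Nat := [ip10_0, ip10_1, ip10_2, ip10_3]
def l10 : Let := ⟨3, true, cl10, tt10, [tm10_0, tm10_1, tm10_2, tm10_3, tm10_4]⟩

def cl11 : Nat := nat_lit 0xffffffffffffff
def tt11 : Nat := nat_lit 0x40000000094000
def tm11_0 : Nat := nat_lit 0xac1ea719d6a54d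
def tm11_1 : Nat := nat_lit 0xa9822f6e0ac494
def tm11_2 : Nat := nat_lit 0xadfdd00853617c
def tm11_3 : Nat := nat_lit 0x4200000c038482
def tm11_4 : Nat := nat_lit 0xeffffff3200000
def ip11_0 : Nat := nat_lit 0x80fde7e6d60071
def ip11_1 : Nat := nat_lit 0x4ec478590945c6
def ip11_2 : Nat := nat_lit 0x81b9d2a672003c
def ip11_3 : Nat := nat_lit 0xae0a0dfb70a5b0
def ip11 : List Nat := [ip11_0, ip11_1, ip11_2, ip11_3]
def l11 : Let := ⟨4, true, cl11, tt11, [tm11_0, tm11_1, tm11_2, tm11_3, tm11_4]⟩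

def cl12 : Nat := nat_lit 0xffffffffffffff
def tt12 : Nat := nat_lit 0x80094986500004
def tm12_0 : Nat := nat_lit 0x4364c52c2150f2
def tm12_1 : Nat := nat_lit 0x1c0558847040ec
def tm12_2 : Nat := nat_lit 0xdffa0000691f10
def tm12_3 : Nat := nat_lit 0xc0000004794000
def tm12_4 : Nat := nat_lit 0xdff2010a000000
def ip12_0 : Nat := nat_lit 0xd30cd524395ab2
def ip12_1 : Nat := nat_lit 0x1f6f5988410fa4
def ip12_2 : Nat := nat_lit 0x1e00510c281fd0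
def ip12_3 : Nat := nat_lit 0xc0f20002104008
def ip12 : List Nat := [ip12_0, ip12_1, ip12_2, ip12_3]
def l12 : Let := ⟨5, true, cl12, tt12, [tm12_0, tm12_1, tm12_2, tm12_3, tm12_4]⟩

def NT : List Net := [n0, n1, n2, n3, n4, n5]
def LT : List Let := [⟨0, false, 0, 0, []⟩, l1, l2, l3, l4, l5, l6, l7, l8, l9, l10, l11, l12]
def T : Tab := ⟨NT, LT⟩
def EX : List (List Nat) := [[], [0], [2], [4], [6], [8], [10], [1], [3], [5], [7], [9], [11]]
def RL : List (List Nat) := [[0, 4, 2, 5, 1, 5], [2, 4, 0, 5, 3, 0], [2, 5, 2, 4, 3, 4], [0, 2, 6, 3, 1, 6], [2, 7, 0, 6, 3, 0], [0, 8, 1, 9], [2, 8, 4, 9, 3, 9], [4, 8, 6, 9, 5, 6], [6, 8, 4, 9, 7, 9], [4, 9, 4, 8, 5, 8], [0, 10, 1, 11], [2, 10, 3, 11], [6, 10, 7, 11], [4, 10, 8, 11, 5, 11], [0, 0, 0], [2, 2, 2], [4, 4, 4], [6, 6, 6], [8, 8, 8], [10, 10, 10]]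
def XL : List (List Nat) := []
def BW : List (List Nat) := [[0], [2], [4], [6], [8]]
def IV : Nat := 0x605040302010c0b0a09080700
def L : List Nat := [1, 2, 3, 4, 5, 6, 7, 8, 9, 10, 11, 12]
def gs : List Nat := [1, 2, 3, 4, 5, 6]
def base : List Nat := [1, 2, 3, 4, 5]

end Cfsg.Agent.Spor.C3A
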